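import Cfsg.Agent.H84.Monster.Span
import Cfsg.Agent.H56.MonsterSign
import Cfsg.Agent.H56.MonsterBaby
import Cfsg.Agent.H16.CoprimeCoset
import Cfsg.Agent.S5406

/-!
An element of odd prime order in the centraliser of `z` acting as a permutation of the frame:
its centraliser in `Q`, the kernel on it, and fusion in its centraliser.
-/

set_option autoImplicit false

namespace H84.Mon

open Cfsg H95 H56M

theorem negOne_ne_one : negOne ≠ (1 : Co0) := fun h => by
  have e : negOne • eight none = (1 : Co0) • eight none := by rw [h]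
  rw [negOne_smul, one_smul] at e
  exact eight_ne_neg none none e.symm

theorem negOne_comm (g : Co0) : Commute g negOne :=
  Subgroup.mem_center_iff.mp negOne_mem_center g

theorem negOne_pow_odd {p : ℕ} (hp : Odd p) : negOne ^ p = negOne := by
  obtain ⟨m, rfl⟩ := hp
  rw [pow_succ, pow_mul, sq, negOne_mul_self, one_pow, one_mul]

variable {G : Type*} [Group G] [Finite G] {z : G} {Q : Subgroup (CZ z)} [Q.Normal]

/-- lifts of elements of odd order are unique -/
theorem lift_eq_of_pow (D : Data z Q) {h : G} {g g' : Co0} {p : ℕ} (hp : Odd p) (a : D.Lift h g)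
    (b : D.Lift h g') (hg : g ^ p = 1) (hg' : g' ^ p = 1) : g' = g := by
  rcases a.unique b with e | e
  · exact e
  · exfalso
    rw [e, (negOne_comm g).mul_pow, hg, one_mul, negOne_pow_odd hp] at hg'
    exact negOne_ne_one hg'

theorem lift_pow (D : Data z Q) {h : G} {g : Co0} (a : D.Lift h g) :
    ∀ k : ℕ, D.Lift (h ^ k) (g ^ k)
  | 0 => by simpa using D.lift_one_iff.mpr (one_mem _)
  | k + 1 => by rw [pow_succ, pow_succ]; exact (lift_pow D a k).mul a

/-- elements of odd order congruent modulo `Q` are conjugate under `Q` -/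
theorem exists_conj_eq (D : Data z Q) {a x : G} (ha : a ∈ CZ z) (hx : x ∈ CZ z) {p : ℕ}
    (hp : Odd p) (hap : a ^ p = 1) (hxp : x ^ p = 1) (hq : a * x⁻¹ ∈ QG Q) :
    ∃ q ∈ QG Q, q * a * q⁻¹ = x := by
  obtain ⟨k, hk, hkx⟩ := hq
  change (k : G) = a * x⁻¹ at hkx
  have hco : Nat.Coprime p (2 ^ 25) :=
    Nat.Coprime.pow_right _ (Nat.coprime_two_right.mpr hp)
  have hcard : Nat.card Q = 2 ^ 25 := D.hS.2.2.2.1
  obtain ⟨c, hc, w, hw, hwc, he⟩ := H16.coset_conj_to_centralizer Q (⟨x, hx⟩ : CZ z)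
    (Nat.Coprime.coprime_dvd_left (orderOf_dvd_of_pow_eq_one (Subtype.ext hxp)) (hcard ▸ hco)) k hk
  have hka : k * ⟨x, hx⟩ = (⟨a, ha⟩ : CZ z) := Subtype.ext (by
    show (k : G) * x = a
    rw [hkx, inv_mul_cancel_right])
  rw [hka] at he
  have hw1 : w = 1 := by
    have h1 : (w * ⟨x, hx⟩) ^ p = (1 : CZ z) := by
      have : (c * (w * ⟨x, hx⟩) * c⁻¹) ^ p = 1 := by rw [he]; exact Subtype.ext hap
      rwa [conj_pow, mul_inv_eq_one, mul_eq_left] at this
    rw [Commute.mul_pow hwc, show (⟨x, hx⟩ : CZ z) ^ p = 1 from Subtype.ext hxp, mul_one] at h1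
    have h2 : orderOf w ∣ 2 ^ 25 := hcard ▸ Subgroup.orderOf_dvd_natCard Q hw
    exact orderOf_eq_one_iff.mp (Nat.eq_one_of_dvd_coprimes hco (orderOf_dvd_of_pow_eq_one h1) h2)
  rw [hw1, one_mul] at he
  refine ⟨(c : G)⁻¹, inv_mem ⟨c, hc, rfl⟩, ?_⟩
  have := congrArg Subtype.val he
  simp only [Subgroup.coe_mul, InvMemClass.coe_inv] at this
  rw [← this]; group

section Centraliser

variable (D : Data z Q) (C : Cfg) (hC : C.ok = true) (hodd : Odd C.p) {y : G}
  (hy : D.Lift y (C.aut hC)) (hyp : y ^ C.p = 1)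

include hodd hy hyp

theorem mem_fix_iff {x : G} {v : leechLattice} (hx : D.Rep x v) :
    x * y = y * x ↔ cls (C.aut hC • v) = cls v := by
  constructor
  · intro h
    have h1 := hx.conj hy
    rw [← h, mul_inv_cancel_right] at h1
    exact h1.unique hx
  · intro h
    rcases ((hx.conj hy).congr h).same hx with e | e
    · exact (eq_mul_inv_iff_mul_eq.mp e)
    · exfalso
      have e' : y * x * y⁻¹ = z * x := by
        calc y * x * y⁻¹ = (z * z) * (y * x * y⁻¹) := by rw [D.z_sq, one_mul]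
          _ = z * (z * (y * x * y⁻¹)) := by group
          _ = z * x := by rw [← e]
      have key : ∀ n : ℕ, y ^ n * x * (y ^ n)⁻¹ = z ^ n * x := by
        intro n
        induction n with
        | zero => simp
        | succ n ih =>
          rw [pow_succ', pow_succ,
            show y * y ^ n * x * (y * y ^ n)⁻¹ = y * (y ^ n * x * (y ^ n)⁻¹) * y⁻¹ by group, ih,
            show y * (z ^ n * x) * y⁻¹ = (y * z ^ n * y⁻¹) * (y * x * y⁻¹) by group, e', ← conj_pow,
            show y * z * y⁻¹ = z from mul_inv_eq_iff_eq_mul.mpr (mem_CZ.mp hy.1), ← mul_assoc]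
      have := key C.p
      rw [hyp, one_mul, inv_one, mul_one] at this
      obtain ⟨m, hm⟩ := hodd
      rw [hm, pow_succ, pow_mul, sq, D.z_sq, one_pow, one_mul] at this
      exact D.z_ne_one (right_eq_mul.mp this)

theorem y_ne_one (hne : C.aut hC ≠ 1) : y ≠ 1 := fun h =>
  hne (lift_eq_of_pow D hodd (h ▸ D.lift_one_iff.mpr (one_mem _)) hy (one_pow _) (C.aut_pow hC))

/-- lifting the normaliser of the permutation -/
theorem exists_lift_conj {g₀ : Co0} {k : ℕ} (hg : g₀ * C.aut hC * g₀⁻¹ = C.aut hC ^ k) :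
    ∃ h, D.Lift h g₀ ∧ h * y * h⁻¹ = y ^ k := by
  obtain ⟨h, hl⟩ := D.exists_lift g₀
  have h1 : D.Lift (h * y * h⁻¹) (C.aut hC ^ k) := hg ▸ (hl.mul hy).mul hl.inv
  have h2 : h * y * h⁻¹ * (y ^ k)⁻¹ ∈ QG Q := by
    have := h1.mul (lift_pow D hy k).inv
    rw [mul_inv_cancel] at this
    exact D.lift_one_iff.mp this
  obtain ⟨q, hq, he⟩ := exists_conj_eq D h1.1 (pow_mem hy.1 k) hodd
    (by rw [conj_pow, hyp, mul_one, mul_inv_cancel])
    (by rw [← pow_mul, mul_comm, pow_mul, hyp, one_pow]) h2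
  refine ⟨q * h, ?_, by rw [← he]; group⟩
  have := (D.lift_one_iff.mpr hq).mul hl
  rwa [one_mul] at this

/-- the classes of a normalising element -/
theorem lift_normaliser {h : G} {g₀ : Co0} {k : ℕ} (hl : D.Lift h g₀) (hh : h * y * h⁻¹ = y ^ k) :
    g₀ * C.aut hC * g₀⁻¹ = C.aut hC ^ k := by
  refine lift_eq_of_pow D hodd (hh ▸ lift_pow D hy k) ((hl.mul hy).mul hl.inv) ?_ ?_
  · rw [← pow_mul, mul_comm, pow_mul, C.aut_pow hC, one_pow]
  · rw [conj_pow, C.aut_pow hC, mul_one, mul_inv_cancel]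

/-- an element normalising `⟨y⟩` trivial on the fixed classes -/
theorem kernel_lift {h : G} {k : ℕ} {allow : Bool} (hk : C.candOK k allow = true) (hz : h ∈ CZ z)
    (hh : h * y * h⁻¹ = y ^ k)
    (htriv : ∀ v, cls (C.aut hC • v) = cls v → ∀ g₀, D.Lift h g₀ → cls (g₀ • v) = cls v) :
    allow = true ∧ (k = 1 → ∃ (j : ℕ) (g₀ : Co0), D.Lift h g₀ ∧
      (g₀ = C.aut hC ^ j ∨ g₀ = C.aut hC ^ j * negOne)) := by
  obtain ⟨g₀, hl⟩ := D.exists_lift_of_mem hz
  have := C.kernel_cases hC hk (lift_normaliser D C hC hodd hy hyp hl hh)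
    (fun v hv => htriv v (by rw [hv]) g₀ hl)
    (htriv _ (fix_frame_mono (C.perm_mem hC) empty_supp) g₀ hl)
  exact ⟨this.1, fun hk1 => let ⟨j, hj⟩ := this.2 hk1; ⟨j, g₀, hl, hj⟩⟩

omit hodd hy hyp in
theorem triv_of_comm {h : G} (hcomm : ∀ x ∈ QG Q, x * y = y * x → h * x = x * h)
    (hfix : ∀ {x : G} {v}, D.Rep x v → cls (C.aut hC • v) = cls v → x * y = y * x) :
    ∀ v, cls (C.aut hC • v) = cls v → ∀ g₀, D.Lift h g₀ → cls (g₀ • v) = cls v := by
  intro v hv g₀ hl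
  have hr := D.rep_elt v
  have h1 := hr.conj hl
  rw [hcomm _ hr.mem (hfix hr hv), mul_inv_cancel_right] at h1
  exact h1.unique hr

/-- the centre of the centraliser of `y` in `Q` -/
theorem center_fix {x : G} (hx : x ∈ QG Q) (hxy : x * y = y * x)
    (hc : ∀ w ∈ QG Q, w * y = y * w → x * w = w * x) : x = 1 ∨ x = z := by
  obtain ⟨v, hv⟩ := D.exists_rep hx
  have hvb := (mem_fix_iff D C hC hodd hy hyp hv).mp hxy
  refine D.rep_zero_cases hv (D.nondeg fun u => ?_)
  have hs : ∀ j : ℕ, bf v ((C.aut hC)⁻¹ ^ j • u) = bf v u := by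
    intro j
    induction j with
    | zero => rw [pow_zero, one_smul]
    | succ j ih =>
      have e : ∀ w, bf (C.aut hC • v) (C.aut hC • w) = bf v w := fun w => by
        rw [bf, bf, co0_dot]
      rw [pow_succ', mul_smul, ← e, smul_inv_smul, ← ih]
      obtain ⟨t, ht⟩ := mem_twice.mp (cls_eq.mp hvb)
      rw [show C.aut hC • v = v + 2 • t by rw [← ht]; abel, two_nsmul, D.bf_add_left,
        D.bf_add_left, CharTwo.add_self_eq_zero, add_zero]
  have hsum : bf v (C.orbSum hC u) = bf v u := by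
    have key : ∀ n : ℕ, bf v (∑ j ∈ Finset.range n, (C.aut hC)⁻¹ ^ j • u) = (n : ZMod 2) * bf v u := by
      intro n
      induction n with
      | zero =>
        rw [Finset.sum_range_zero, Nat.cast_zero, zero_mul]
        have := D.bf_add_left 0 0 v
        rw [add_zero, left_eq_add] at this
        rw [bf_comm, this]
      | succ n ih =>
        rw [Finset.sum_range_succ, bf_comm v, D.bf_add_left, bf_comm _ v, bf_comm _ v, ih, hs, Nat.cast_succ,
          add_mul, one_mul]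
    rw [Cfg.orbSum, key]
    obtain ⟨m, hm⟩ := hodd
    rw [hm]; push_cast; rw [show (2 : ZMod 2) = 0 from rfl, zero_mul, zero_add, one_mul]
  have hr := D.rep_elt (C.orbSum hC u)
  rw [← hsum]
  exact (hv.comm_iff hr).mp (hc _ hr.mem
    ((mem_fix_iff D C hC hodd hy hyp hr).mpr (by rw [C.orbSum_fixed hC])))

/-- the centraliser of `C_Q(y)` in the centraliser of `z` and `y` -/
theorem kernel_fix (hk : C.candOK 1 true = true) {h : G} (hz : h ∈ CZ z) (hhy : h * y = y * h)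
    (hcomm : ∀ x ∈ QG Q, x * y = y * x → h * x = x * h) :
    ∃ j : ℕ, h = y ^ j ∨ h = z * y ^ j := by
  obtain ⟨-, hh⟩ := kernel_lift D C hC hodd hy hyp hk hz (k := 1)
    (by rw [pow_one, hhy, mul_inv_cancel_right])
    (triv_of_comm D C hC hcomm fun hr hv => (mem_fix_iff D C hC hodd hy hyp hr).mpr hv)
  obtain ⟨j, g₀, hl, hg⟩ := hh rfl
  have hl' : D.Lift h (C.aut hC ^ j) := by
    rcases hg with e | e <;> rw [e] at hl
    · exact hl
    · exact D.lift_negOne_iff.mp hl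
  have hm := hl'.mul (lift_pow D hy j).inv
  rw [mul_inv_cancel] at hm
  have hcy : Commute y (y ^ j)⁻¹ := ((Commute.refl y).pow_right j).inv_right
  rcases center_fix D C hC hodd hy hyp (D.lift_one_iff.mp hm) ((Commute.mul_left hhy hcy.symm).eq)
    (fun w hw hwy => ((Commute.mul_left (hcomm w hw hwy)
      ((Commute.pow_left (Commute.symm hwy) j).inv_left)).eq)) with e | e
  · exact ⟨j, Or.inl (mul_inv_eq_one.mp e)⟩
  · exact ⟨j, Or.inr (mul_inv_eq_iff_eq_mul.mp e)⟩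

end Centraliser

/-- two conjugates of `z` in `Q` are exchanged -/
theorem exists_swap (hM : IsOfMonsterType z Q) {x : G} (hx : x ∈ QG Q) (hc : IsConj z x)
    (hxz : x ≠ z) : ∃ w : G, w * z * w⁻¹ = x ∧ w * x * w⁻¹ = z := by
  obtain ⟨D₀⟩ := nonempty_data hM
  obtain ⟨D, hD⟩ := D₀.exists_twist64 hx hc hxz
  obtain ⟨a, ha⟩ := isConj_iff.mp hc
  have hzR := mem_RG.mp (D.z_mem_R64 ha hD hxz)
  have hmem : ∀ {u : G}, u ∈ QG Q → ∃ hu : u ∈ CZ z, (⟨u, hu⟩ : CZ z) ∈ Q := by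
    rintro _ ⟨v, hv, rfl⟩; exact ⟨v.2, hv⟩
  have hne : a⁻¹ * z * a ≠ z := fun h => hxz (by
    calc x = a * (a⁻¹ * z * a) * a⁻¹ := by rw [h, ha]
      _ = z := by group)
  obtain ⟨c, hcz, hcc⟩ := Cfsg.Agent.S5406.result z Q hM (a⁻¹ * z * a) x
    (hmem hzR) (hmem hx)
    (isConj_iff.mpr ⟨a⁻¹, by rw [inv_inv]⟩) hc hne hxz
  refine ⟨a * c⁻¹, ?_, ?_⟩
  · rw [show a * c⁻¹ * z * (a * c⁻¹)⁻¹ = a * (c⁻¹ * z * c) * a⁻¹ by group,
      show c⁻¹ * z * c = z by rw [mul_assoc, ← mem_CZ.mp hcz, inv_mul_cancel_left], ha]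
  · rw [← hcc]; group

/-- fusion inside the centraliser of an element normalised by a swap -/
theorem fusion_centralizer {x y w : G} {k : ℕ} (hwz : w * z * w⁻¹ = x) (hwy : w * y * w⁻¹ = y ^ k)
    (hN : ∃ c ∈ CZ z, c * y * c⁻¹ = y ^ k) : ∃ a : G, a * y = y * a ∧ a * z * a⁻¹ = x := by
  obtain ⟨c, hc, hcy⟩ := hN
  refine ⟨w * c⁻¹, ?_, ?_⟩
  · have hit : ∀ n : ℕ, c ^ n * y * (c ^ n)⁻¹ = y ^ (k ^ n) := by
      intro n
      induction n with
      | zero => simp
      | succ n ih =>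
        rw [pow_succ', show c * c ^ n * y * (c * c ^ n)⁻¹ = c * (c ^ n * y * (c ^ n)⁻¹) * c⁻¹ by group,
          ih, ← conj_pow, hcy, ← pow_mul, ← pow_succ']
    obtain ⟨m, hm⟩ : ∃ m : ℕ, c⁻¹ * y * c = y ^ m := by
      refine ⟨k ^ (orderOf c - 1), ?_⟩
      have e : c⁻¹ = c ^ (orderOf c - 1) := inv_eq_of_mul_eq_one_right (by
        rw [← pow_succ', Nat.sub_add_cancel (orderOf_pos c), pow_orderOf_eq_one])
      rw [← hit, ← e, inv_inv]
    have h1 : y ^ (k * m) = y := by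
      rw [pow_mul, ← hcy, conj_pow, ← hm]; group
    have h2 : w * c⁻¹ * y * (w * c⁻¹)⁻¹ = y := by
      rw [show w * c⁻¹ * y * (w * c⁻¹)⁻¹ = w * (c⁻¹ * y * c) * w⁻¹ by group, hm, ← conj_pow, hwy,
        ← pow_mul, h1]
    exact mul_inv_eq_iff_eq_mul.mp h2
  · rw [show w * c⁻¹ * z * (w * c⁻¹)⁻¹ = w * (c⁻¹ * z * c) * w⁻¹ by group,
      show c⁻¹ * z * c = z by rw [mul_assoc, ← mem_CZ.mp hc, inv_mul_cancel_left], hwz]

end H84.Mon
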