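import Cfsg.Agent.H56.MonsterSign
import Cfsg.Agent.H29.Basic
import Cfsg.Agent.H90.Group

/-!
The centraliser of `z` and a conjugate in `Q`: Sylow subgroups of odd order are permutations of
the frame in a suitable identification.
-/

set_option autoImplicit false

namespace H84.Mon

open Cfsg H95 H56M

/-- the frame stabiliser modulo the centre -/
noncomputable abbrev stX : Subgroup Spor.Co1 := sgn.range ⊔ permHom.range

theorem card_stX : Nat.card stX = 2 ^ 11 * 244823040 := by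
  haveI : Finite Co0 := Nat.finite_of_card_ne_zero (by rw [card_co0 golayUnique]; norm_num)
  haveI : Finite Spor.Co1 := inferInstanceAs (Finite (Co0 ⧸ Subgroup.center Co0))
  have hnorm : permHom.range ≤ Subgroup.normalizer (sgn.range : Set Spor.Co1) := by
    intro x hx
    rw [Subgroup.mem_normalizer_iff]
    intro w
    refine ⟨fun hw => sgn_normal (Subgroup.mem_sup_right hx) hw, fun hw => ?_⟩
    have h := sgn_normal (inv_mem (Subgroup.mem_sup_right hx : x ∈ sgn.range ⊔ permHom.range)) hw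
    simpa [mul_assoc] using h
  have h := Cfsg.Agent.H29.card_prod_mul_card_inf permHom.range sgn.range
  rw [← Subgroup.coe_mul_of_left_le_normalizer_right _ _ hnorm, inf_comm, sgn_inf_perm,
    Subgroup.card_bot, mul_one, card_sgn_range,
    ← Nat.card_congr (MonoidHom.ofInjective permHom_injective).toEquiv, H90.natCard_M24] at h
  rw [stX, sup_comm, mul_comm]
  exact h

theorem factorization_aux {p : ℕ} (hp : p.Prime) (h2 : p ≠ 2) {n m : ℕ} (hm : m ≠ 0) :
    (2 ^ n * m).factorization p = m.factorization p := by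
  rw [Nat.factorization_mul (by positivity) hm, Finsupp.add_apply,
    Nat.factorization_eq_zero_of_not_dvd fun h =>
      h2 ((Nat.prime_dvd_prime_iff_eq hp Nat.prime_two).mp (hp.dvd_of_dvd_pow h)), zero_add]

variable {G : Type*} [Group G] [Finite G] {z s : G} {Q : Subgroup (CZ z)} [Q.Normal]

/-- the centraliser of the pair -/
abbrev LL (z s : G) : Subgroup G := Subgroup.centralizer ({z, s} : Set G)

omit [Finite G] in
theorem mem_LL {x : G} : x ∈ LL z s ↔ x * z = z * x ∧ x * s = s * x := by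
  rw [LL, Subgroup.mem_centralizer_iff]
  constructor
  · exact fun h => ⟨(h z (Or.inl rfl)).symm, (h s (Or.inr rfl)).symm⟩
  · rintro ⟨h1, h2⟩ w (rfl | rfl)
    · exact h1.symm
    · exact h2.symm

variable (D : Data z Q) (hrep : D.Rep s (eight none)) (hsz : s ≠ z) (hsc : IsConj z s)

/-- the image of the centraliser of the pair -/
noncomputable def thetaL : LL z s →* Spor.Co1 :=
  D.e.toMonoidHom.comp ((QuotientGroup.mk' Q).comp
    ((MonoidHom.id G).comp (LL z s).subtype |>.codRestrict (CZ z) fun x => mem_CZ.mpr (mem_LL.mp x.2).1))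

omit [Finite G] in
theorem lift_thetaL (x : LL z s) (g₀ : Co0) :
    D.Lift x g₀ ↔ thetaL D x = QuotientGroup.mk g₀ :=
  ⟨fun ⟨_, h⟩ => h.symm, fun h => ⟨mem_CZ.mpr (mem_LL.mp x.2).1, h.symm⟩⟩

include hrep hsz hsc

theorem range_thetaL : (thetaL (s := s) D).range = (stX : Subgroup Spor.Co1) := by
  obtain ⟨g, hg⟩ := isConj_iff.mp hsc
  ext x
  obtain ⟨g₀, rfl⟩ := QuotientGroup.mk_surjective x
  constructor
  · rintro ⟨a, ha⟩
    have hl := (lift_thetaL D a g₀).mpr ha
    have h1 := hrep.conj hl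
    rw [(mem_LL.mp a.2).2, mul_inv_cancel_right] at h1
    exact stab_iff.mp (h1.unique hrep)
  · intro hx
    obtain ⟨h, hl, hh⟩ := D.exists_lift_fix hrep (D.frame_ne hg hrep hsz) (stab_iff.mpr hx)
    exact ⟨⟨h, mem_LL.mpr ⟨mem_CZ.mp hl.1, hh⟩⟩, (lift_thetaL D ⟨h, _⟩ g₀).mp hl⟩

theorem card_LL_factorization {p : ℕ} (hp : p.Prime) (h2 : p ≠ 2) :
    (Nat.card (LL z s)).factorization p = (244823040 : ℕ).factorization p := by
  have h := (thetaL (s := s) D).ker.card_mul_index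
  rw [Subgroup.index_ker, range_thetaL D hrep hsz hsc, card_stX] at h
  have hker : IsPGroup 2 (thetaL (s := s) D).ker := by
    rintro ⟨a, ha⟩
    have hl : D.Lift (a : G) 1 := (lift_thetaL D a 1).mpr ha
    obtain ⟨k, hk⟩ := D.isPGroup_QG ⟨_, D.lift_one_iff.mp hl⟩
    exact ⟨k, Subtype.ext (Subtype.ext (congrArg Subtype.val hk :))⟩
  haveI : Fact (Nat.Prime 2) := ⟨Nat.prime_two⟩
  obtain ⟨k, hk⟩ := hker.exists_card_eq
  rw [← h, hk, ← mul_assoc, ← pow_add, factorization_aux hp h2 (by norm_num)]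

/-- a Sylow subgroup of odd order becomes a given group of permutations -/
theorem normal_form {p : ℕ} [hp : Fact p.Prime] (h2 : p ≠ 2) {P : Subgroup G} (hP : P ≤ LL z s)
    (hPc : Nat.card P = p ^ (Nat.card (LL z s)).factorization p) (P0 : Subgroup M24)
    (hP0 : Nat.card P0 = p ^ (244823040 : ℕ).factorization p) :
    ∃ D' : Data z Q, D'.Rep s (eight none) ∧
      (∀ a ∈ P, ∃ σ ∈ P0, D'.Lift a (mono (σ : Equiv.Perm GolayPt) ∅ σ.2 empty_supp)) ∧
      ∀ σ ∈ P0, ∃ a ∈ P, D'.Lift a (mono (σ : Equiv.Perm GolayPt) ∅ σ.2 empty_supp) := by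
  haveI : Finite Co0 := Nat.finite_of_card_ne_zero (by rw [card_co0 golayUnique]; norm_num)
  haveI : Finite Spor.Co1 := inferInstanceAs (Finite (Co0 ⧸ Subgroup.center Co0))
  set θ := thetaL (s := s) D
  set P' : Subgroup (LL z s) := P.subgroupOf (LL z s)
  set A : Subgroup Spor.Co1 := P'.map θ
  set A0 : Subgroup Spor.Co1 := P0.map permHom
  have hn : p ^ (244823040 : ℕ).factorization p = p ^ (Nat.card stX).factorization p := by
    rw [card_stX, factorization_aux hp.out h2 (by norm_num)]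
  have hA0 : Nat.card A0 = p ^ (Nat.card stX).factorization p := by
    rw [← hn, ← hP0, ← Nat.card_congr (Subgroup.equivMapOfInjective P0 permHom permHom_injective).toEquiv]
  have hA : Nat.card A = p ^ (Nat.card stX).factorization p := by
    rw [← hn, ← card_LL_factorization D hrep hsz hsc hp.out h2, ← hPc,
      ← Nat.card_congr (Subgroup.subgroupOfEquivOfLe hP).toEquiv]
    refine Nat.card_congr (Equiv.ofBijective (fun x : P' => (⟨θ x, _, x.2, rfl⟩ : A)) ⟨?_, ?_⟩).symm
    · intro x x' hxx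
      have he : θ ((x : LL z s)⁻¹ * x') = 1 := by
        rw [map_mul, map_inv, show θ x = θ x' from congrArg Subtype.val hxx, inv_mul_cancel]
      have hl : D.Lift (((x : LL z s)⁻¹ * x' : LL z s) : G) 1 := (lift_thetaL D _ 1).mpr he
      obtain ⟨k, hk⟩ := D.isPGroup_QG ⟨_, D.lift_one_iff.mp hl⟩
      have hP' : IsPGroup p P' := IsPGroup.of_card
        ((Nat.card_congr (Subgroup.subgroupOfEquivOfLe hP).toEquiv).trans hPc)
      obtain ⟨l, hl'⟩ := hP' (x⁻¹ * x')
      have h1 : ((x : LL z s)⁻¹ * x' : LL z s) ^ (2 ^ k) = 1 :=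
        Subtype.ext (congrArg Subtype.val hk :)
      have h2' : ((x : LL z s)⁻¹ * x' : LL z s) ^ (p ^ l) = 1 := congrArg Subtype.val hl'
      have h3 := Nat.dvd_gcd (orderOf_dvd_of_pow_eq_one h1) (orderOf_dvd_of_pow_eq_one h2')
      rw [Nat.Coprime.pow _ _ ((Nat.coprime_primes Nat.prime_two hp.out).mpr (Ne.symm h2))] at h3
      exact Subtype.ext (inv_mul_eq_one.mp (orderOf_eq_one_iff.mp (Nat.dvd_one.mp h3)))
    · rintro ⟨_, x, hx, rfl⟩; exact ⟨⟨x, hx⟩, rfl⟩
  have hAle : A ≤ stX := by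
    rw [← range_thetaL D hrep hsz hsc]; exact MonoidHom.range_eq_map θ ▸ Subgroup.map_mono le_top
  have hA0le : A0 ≤ stX := le_trans
    (MonoidHom.range_eq_map permHom ▸ Subgroup.map_mono le_top) le_sup_right
  let S : Sylow p stX := Sylow.ofCard (A.subgroupOf stX)
    (by rw [Nat.card_congr (Subgroup.subgroupOfEquivOfLe hAle).toEquiv, hA])
  let S0 : Sylow p stX := Sylow.ofCard (A0.subgroupOf stX)
    (by rw [Nat.card_congr (Subgroup.subgroupOfEquivOfLe hA0le).toEquiv, hA0])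
  obtain ⟨x, hx⟩ := MulAction.exists_smul_eq stX S S0
  have hxS : (A.subgroupOf stX).map (MulAut.conj x).toMonoidHom = A0.subgroupOf stX := by
    have := congrArg Sylow.toSubgroup hx
    rwa [Sylow.coe_subgroup_smul, Sylow.coe_ofCard, Sylow.coe_ofCard] at this
  obtain ⟨g₁, hg₁⟩ := QuotientGroup.mk_surjective ((x : Spor.Co1)⁻¹)
  refine ⟨D.twist g₁, ?_, ?_, ?_⟩
  · refine (D.rep_twist).mpr (hrep.congr (stab_iff.mpr ?_).symm)
    exact hg₁ ▸ inv_mem x.2
  all_goals
    have hlift : ∀ (a : LL z s) (σ : M24), permHom σ = (x : Spor.Co1) * θ a * (x : Spor.Co1)⁻¹ →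
        (D.twist g₁).Lift a (mono (σ : Equiv.Perm GolayPt) ∅ σ.2 empty_supp) := by
      intro a σ he
      refine ⟨mem_CZ.mpr (mem_LL.mp a.2).1, ?_⟩
      show permHom σ = MulAut.conj ((QuotientGroup.mk g₁ : Spor.Co1))⁻¹ (θ a)
      rw [MulAut.conj_apply, hg₁, inv_inv, he]
  · intro a ha
    have hmem : (⟨θ ⟨a, hP ha⟩, hAle ⟨_, ha, rfl⟩⟩ : stX) ∈ A.subgroupOf stX := ⟨_, ha, rfl⟩
    have h1 := Subgroup.mem_map_of_mem (MulAut.conj x).toMonoidHom hmem
    rw [hxS] at h1
    obtain ⟨σ, hσ, he⟩ := h1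
    exact ⟨σ, hσ, hlift ⟨a, hP ha⟩ σ he⟩
  · intro σ hσ
    have hmem : (⟨permHom σ, hA0le ⟨_, hσ, rfl⟩⟩ : stX) ∈ A0.subgroupOf stX := ⟨_, hσ, rfl⟩
    rw [← hxS] at hmem
    obtain ⟨w, ⟨a, ha, hae⟩, hwe⟩ := hmem
    refine ⟨a, ha, hlift a σ ?_⟩
    have := congrArg Subtype.val hwe
    rw [hae]
    exact this.symm

end H84.Mon
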