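import Cfsg.Agent.H84.Monster.ThreeHom
import Cfsg.Agent.H84.Monster.Frame
import Cfsg.Agent.H12.Monster.Setting

/-!
A central element of order three in the centraliser of a pair gives a group of large Fischer type.
-/

set_option autoImplicit false

namespace H84.Mon.Three

open Cfsg H95 H56M

theorem cfg_odd : Odd cfg.p := ⟨1, rfl⟩

/-- equal codes -/
theorem repr_of_same {σ : Equiv.Perm GolayPt} {p q : ℕ} (hp : H90.Repr σ p)
    (h : sameN p q = true) : H90.Repr σ q := fun i => by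
  simp only [sameN, List.all_eq_true, List.mem_range, decide_eq_true_eq] at h
  rw [hp i, h i.val i.isLt]

theorem same_of_repr {σ : Equiv.Perm GolayPt} {p q : ℕ} (hp : H90.Repr σ p)
    (hq : H90.Repr σ q) : sameN p q = true := by
  simp only [sameN, List.all_eq_true, List.mem_range, decide_eq_true_eq]
  intro i hi
  rw [← hp ⟨i, hi⟩, ← hq ⟨i, hi⟩]

/-- a Sylow subgroup of the permutations -/
def sylSet : Set M24 := {σ | ∃ p ∈ sylL, H90.Repr (σ : Equiv.Perm GolayPt) p}

theorem repr_isPow {σ : Equiv.Perm GolayPt} {p k : ℕ} (hp : H90.Repr σ p)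
    (h : isPow k p = true) : σ = cfg.perm cfg_ok ^ k := by
  simp only [isPow, List.all_eq_true, List.mem_range, decide_eq_true_eq] at h
  refine Equiv.ext fun i => H90.idx_injective (Fin.ext ?_)
  rw [hp.apply, Equiv.Perm.coe_pow, cfg.idx_iter cfg_ok]
  exact h _ (H90.idx i).isLt

theorem one_sylSet : (1 : M24) ∈ sylSet := by
  obtain ⟨p, hp, hpow⟩ := syl_ok.2.2.2.2.1
  obtain ⟨σ, hσ⟩ := H90.exists_repr (syl_ok.2.1 p hp).1
  refine ⟨p, hp, ?_⟩
  have := repr_isPow hσ hpow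
  rw [pow_zero] at this
  subst this
  exact hσ

theorem mul_sylSet {σ τ : M24} (hσ : σ ∈ sylSet) (hτ : τ ∈ sylSet) : σ * τ ∈ sylSet := by
  obtain ⟨p, hp, hp'⟩ := hσ
  obtain ⟨q, hq, hq'⟩ := hτ
  obtain ⟨r, hr, hs⟩ := syl_ok.2.2.2.1 p hp q hq
  exact ⟨r, hr, repr_of_same (hp'.mul hq') hs⟩

/-- the Sylow subgroup -/
noncomputable def P0 : Subgroup M24 where
  carrier := sylSet
  one_mem' := one_sylSet
  mul_mem' := mul_sylSet
  inv_mem' := by
    intro σ hσ
    haveI : Finite M24 := Nat.finite_of_card_ne_zero (by rw [H90.natCard_M24]; norm_num)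
    have hp : ∀ n : ℕ, σ ^ n ∈ sylSet := fun n => by
      induction n with
      | zero => rw [pow_zero]; exact one_sylSet
      | succ n ih => rw [pow_succ]; exact mul_sylSet ih hσ
    have h : σ⁻¹ = σ ^ (orderOf σ - 1) := inv_eq_of_mul_eq_one_right (by
      rw [← pow_succ', Nat.sub_add_cancel (orderOf_pos σ), pow_orderOf_eq_one])
    rw [h]
    exact hp _

theorem card_P0 : Nat.card P0 = 27 := by
  have hlen := syl_ok.1
  have hex : ∀ i : Fin 27, ∃ σ : P0, H90.Repr ((σ : M24) : Equiv.Perm GolayPt) (sylL.getD i.val 0) := by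
    intro i
    have hmem : sylL.getD i.val 0 ∈ sylL := by
      rw [List.getD_eq_getElem _ _ (by omega)]; exact List.getElem_mem _
    obtain ⟨h1, h2⟩ := syl_ok.2.1 _ hmem
    obtain ⟨σ, hσ⟩ := H90.exists_repr h1
    exact ⟨⟨⟨σ, (H90.mem_M24_iff_preservesCode hσ).mpr h2⟩, _, hmem, hσ⟩, hσ⟩
  choose f hf using hex
  have hb : Function.Bijective f := by
    refine ⟨fun a b e => syl_ok.2.2.1 a b (same_of_repr (hf a) (e ▸ hf b)), ?_⟩
    rintro ⟨σ, p, hp, hσ⟩
    obtain ⟨n, hn, rfl⟩ := List.mem_iff_getElem.mp hp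
    refine ⟨⟨n, hlen ▸ hn⟩, Subtype.ext (Subtype.ext ((hf _).unique ?_))⟩
    show H90.Repr _ (sylL.getD n 0)
    rw [List.getD_eq_getElem _ _ hn]
    exact hσ
  rw [← Nat.card_congr (Equiv.ofBijective f hb), Nat.card_fin]

theorem perm_mem_P0 : (⟨cfg.perm cfg_ok, cfg.perm_mem cfg_ok⟩ : M24) ∈ P0 := by
  obtain ⟨p, hp, hpow⟩ := syl_ok.2.2.2.2.2.1
  obtain ⟨σ, hσ⟩ := H90.exists_repr (syl_ok.2.1 p hp).1
  refine ⟨p, hp, ?_⟩
  have := repr_isPow hσ hpow
  rw [pow_one] at this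
  subst this
  exact hσ

theorem central_P0 {σ : M24} (hσ : σ ∈ P0) (h : ∀ τ ∈ P0, σ * τ = τ * σ) :
    ∃ k : Fin 3, (σ : Equiv.Perm GolayPt) = cfg.perm cfg_ok ^ k.val := by
  obtain ⟨p, hp, hσ'⟩ := hσ
  have hc : ∀ q ∈ sylL, sameN (H90.compN p q) (H90.compN q p) = true := by
    intro q hq
    obtain ⟨h1, h2⟩ := syl_ok.2.1 q hq
    obtain ⟨τ, hτ⟩ := H90.exists_repr h1
    have e := congrArg Subtype.val (h ⟨τ, (H90.mem_M24_iff_preservesCode hτ).mpr h2⟩ ⟨q, hq, hτ⟩)
    simp only [Subgroup.coe_mul] at e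
    exact same_of_repr (hσ'.mul hτ) (e ▸ hτ.mul hσ')
  have hh := syl_ok.2.2.2.2.2.2 p hp hc
  simp only [Bool.or_eq_true] at hh
  rcases hh with (a | a) | a
  · exact ⟨0, repr_isPow hσ' a⟩
  · exact ⟨1, repr_isPow hσ' a⟩
  · exact ⟨2, repr_isPow hσ' a⟩

theorem fact_three : (244823040 : ℕ).factorization 3 = 3 := by
  rw [show (244823040 : ℕ) = 3 ^ 3 * 9067520 by norm_num,
    Nat.factorization_mul (by norm_num) (by norm_num), Finsupp.add_apply,
    Nat.Prime.factorization_pow (by norm_num), Finsupp.single_eq_same,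
    Nat.factorization_eq_zero_of_not_dvd (by norm_num)]

theorem mono_pow_perm (k : ℕ) (hm : cfg.perm cfg_ok ^ k ∈ M24) :
    mono (cfg.perm cfg_ok ^ k) ∅ hm H56M.empty_supp = cfg.aut cfg_ok ^ k := by
  induction k with
  | zero =>
    simp only [pow_zero]
    exact co0_ext fun v => Subtype.ext (funext fun i => by
      rw [mono_smul, one_smul]; simp [signedPerm, Equiv.Perm.one_def])
  | succ k ih =>
    rw [pow_succ (cfg.aut cfg_ok), ← ih (M24.pow_mem (cfg.perm_mem cfg_ok) k)]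
    refine co0_ext fun v => Subtype.ext ?_
    rw [mul_smul, Cfg.aut, mono_smul, mono_smul, mono_smul, signedPerm_comp, Finset.image_empty]
    simp [symmDiff_def, pow_succ]

theorem ncard_fix : (H12.Monster.fixCls (cfg.aut cfg_ok)).ncard = 2 ^ (2 * 6) := by
  have e : H12.Monster.fixCls (cfg.aut cfg_ok) = (fun m => cls (cv m)) '' Set.Iio 4096 := by
    ext c
    constructor
    · rintro ⟨v, hv, rfl⟩
      obtain ⟨m, hm, e⟩ := exists_mask hv
      exact ⟨m, hm, e.symm⟩
    · rintro ⟨m, -, rfl⟩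
      refine ⟨cv m, ?_, rfl⟩
      show cls (cfg.aut cfg_ok • cv m) = cls (cv m)
      rw [cv, cvN_fixed]
  have hinj : Set.InjOn (fun m => cls (cv m)) (Set.Iio 4096) := fun a ha b hb h => cv_inj ha hb h
  rw [e, Set.ncard_image_of_injOn hinj,
    ← Finset.coe_Iio, Set.ncard_coe_finset, Nat.card_Iio]
  norm_num

variable {G : Type*} [Group G] [Finite G] {z s : G} {Q : Subgroup (CZ z)} [Q.Normal]

/-- the element in standard position -/
theorem setup (hM : IsOfMonsterType z Q) (hs : s ∈ QG Q) (hsc : IsConj z s) (hsz : s ≠ z)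
    {Y : Subgroup G} (hY : Y ≤ LL z s) (hY3 : Nat.card Y = 3) (P : Sylow 3 ↥(LL z s))
    (hc : Y.subgroupOf (LL z s) ≤ (Subgroup.center ↥(P : Subgroup ↥(LL z s))).map
      (P : Subgroup ↥(LL z s)).subtype) :
    ∃ (D : Data z Q) (y : G), H12.Monster.Setup D s y (cfg.aut cfg_ok) 3 ∧
      Y = Subgroup.zpowers y := by
  haveI : Fact (Nat.Prime 3) := ⟨Nat.prime_three⟩
  set P' : Subgroup G := (P : Subgroup ↥(LL z s)).map (LL z s).subtype with hP'
  have hPc : Nat.card P' = 3 ^ (Nat.card (LL z s)).factorization 3 := by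
    rw [hP', Subgroup.card_map_of_injective (LL z s).subtype_injective]
    exact P.card_eq_multiplicity
  obtain ⟨D₀⟩ := nonempty_data hM
  obtain ⟨D₁, hD₁⟩ := D₀.exists_twist64 hs hsc hsz
  obtain ⟨D, hrep, hin, hsur⟩ := normal_form D₁ hD₁ hsz hsc (p := 3) (by norm_num)
    (Subgroup.map_subtype_le _) hPc P0 (by rw [card_P0, fact_three]; norm_num)
  obtain ⟨y₀, hy₀, hy₀1⟩ : ∃ y₀ ∈ Y, y₀ ≠ 1 := by
    by_contra h
    push Not at h
    have : Y = ⊥ := (Subgroup.eq_bot_iff_forall Y).mpr h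
    rw [this, Subgroup.card_bot] at hY3
    omega
  have hy3 : y₀ ^ 3 = 1 := by
    have := congrArg Subtype.val (pow_card_eq_one' (x := (⟨y₀, hy₀⟩ : Y)))
    rwa [hY3] at this
  obtain ⟨c, hcc, hce⟩ := hc (Subgroup.mem_subgroupOf.mpr hy₀ : (⟨y₀, hY hy₀⟩ : LL z s) ∈ _)
  have hy₀P : y₀ ∈ P' := ⟨_, c.2, congrArg Subtype.val hce⟩
  have hcomm : ∀ a ∈ P', y₀ * a = a * y₀ := by
    rintro _ ⟨a, ha, rfl⟩
    have h := congrArg (fun x : (P : Subgroup ↥(LL z s)) => ((x : LL z s) : G))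
      (Subgroup.mem_center_iff.mp hcc ⟨a, ha⟩)
    have e : ((c : LL z s) : G) = y₀ := congrArg Subtype.val hce
    simp only [Subgroup.coe_mul, e] at h
    exact h.symm
  obtain ⟨σ, hσ, hl⟩ := hin y₀ hy₀P
  have hcen : ∀ τ ∈ P0, σ * τ = τ * σ := by
    intro τ hτ
    obtain ⟨a, ha, hla⟩ := hsur τ hτ
    have h1 := hl.mul hla
    have h2 := hla.mul hl
    rw [← hcomm a ha] at h2
    apply H56M.permHom_injective
    rw [map_mul, map_mul]
    show ((QuotientGroup.mk _ : Spor.Co1) * QuotientGroup.mk _) =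
      (QuotientGroup.mk _ : Spor.Co1) * QuotientGroup.mk _
    rw [← QuotientGroup.mk_mul, ← QuotientGroup.mk_mul, QuotientGroup.eq]
    rcases h1.unique h2 with e | e <;> rw [e]
    · rw [inv_mul_cancel]; exact one_mem _
    · rw [inv_mul_cancel_left]; exact negOne_mem_center
  obtain ⟨k, hk⟩ := central_P0 hσ hcen
  have hl' : D.Lift y₀ (cfg.aut cfg_ok ^ k.val) := by
    have e : mono (σ : Equiv.Perm GolayPt) ∅ σ.2 H56M.empty_supp = cfg.aut cfg_ok ^ k.val := by
      rw [← mono_pow_perm k.val (hk ▸ σ.2)]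
      congr 1
    exact e ▸ hl
  have hk0 : k.val ≠ 0 := by
    intro h0
    rw [h0, pow_zero] at hl'
    exact hy₀1 (H12.Monster.Setup.eq_one_of_odd_pow D (by decide) (D.lift_one_iff.mp hl') hy3)
  have hord : orderOf (y₀ ^ k.val) = 3 := by
    rw [(Nat.Coprime.orderOf_pow (y := y₀) ?_), orderOf_eq_prime hy3 hy₀1]
    rw [orderOf_eq_prime hy3 hy₀1, Nat.prime_three.coprime_iff_not_dvd]
    omega
  have hlift : D.Lift (y₀ ^ k.val) (cfg.aut cfg_ok) := by
    have h := lift_pow D hl' k.val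
    rw [← pow_mul, aut_pow_mod] at h
    have : k.val * k.val % 3 = 1 := by
      rcases (show k.val = 1 ∨ k.val = 2 by omega) with e | e <;> rw [e]
    rwa [this, pow_one] at h
  refine ⟨D, y₀ ^ k.val,
    { prime := Nat.prime_three, odd := by decide, ord := hord, lift := hlift,
      gord := cfg.aut_pow cfg_ok,
      comm := (mem_LL.mp (pow_mem (hY hy₀) _)).2, rep := hrep, conj := hsc, ne := hsz }, ?_⟩
  symm
  exact Subgroup.eq_of_le_of_card_ge (Subgroup.zpowers_le.mpr (pow_mem hy₀ _))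
    (by rw [Nat.card_zpowers, hord, hY3])

theorem kernel_act (a : CC) (h : ∀ v, cls (cfg.aut cfg_ok • v) = cls v → cls ((a : Co0) • v) = cls v) :
    QuotientGroup.mk' N1 a = 1 := by
  have hc : (a : Co0) * cfg.aut cfg_ok * (a : Co0)⁻¹ = cfg.aut cfg_ok ^ 1 := by
    rw [pow_one, mul_inv_eq_iff_eq_mul]; exact mem_CC.mp a.2
  obtain ⟨-, h1⟩ := cfg.kernel_cases cfg_ok cand_one hc (fun v hv => h v (by rw [hv]))
    (h _ (fix_frame_mono (cfg.perm_mem cfg_ok) H56M.empty_supp))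
  exact (QuotientGroup.eq_one_iff _).mpr (mem_N1.mpr (h1 rfl))

/-- the large Fischer type -/
theorem main {D : Data z Q} {y : G} (S : H12.Monster.Setup D s y (cfg.aut cfg_ok) 3)
    [(H12.Monster.YN y).Normal] :
    IsOfLargeFischerType ((H12.Monster.CY y) ⧸ H12.Monster.YN y) := by
  obtain ⟨N', M', hN, hM', hNM, hcardN, hidx, ⟨θ, hθs, hθk⟩, hT⟩ := structure_PP
  obtain ⟨Z, R, hR, hset, ⟨e⟩, -, -⟩ := S.setting (w := 6) (by norm_num) ncard_fix
    (QuotientGroup.mk' N1) (QuotientGroup.mk'_surjective _)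
    (fun a => (QuotientGroup.eq_one_iff a).trans mem_N1) kernel_act hT
  let f : CZ Z →* PP := e.toMonoidHom.comp (QuotientGroup.mk' R)
  have hf : Function.Surjective f := e.surjective.comp (QuotientGroup.mk'_surjective R)
  have hfR : f.ker = R := by
    ext x
    rw [MonoidHom.mem_ker]
    show e (QuotientGroup.mk' R x) = 1 ↔ _
    rw [MulEquiv.map_eq_one_iff]
    exact QuotientGroup.eq_one_iff x
  refine ⟨Z, R, hR, hset, N'.comap f, M'.comap f, hN.comap f, hM'.comap f, ?_, Subgroup.comap_mono hNM,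
    ?_, ⟨H50.McLU4.K, inferInstance, inferInstance, by rw [H50.McLU4.hK]; norm_num, ?_⟩, ?_⟩
  · intro x hx
    rw [Subgroup.mem_comap, MonoidHom.mem_ker.mp (hfR.symm ▸ hx)]
    exact one_mem _
  · haveI := finite_co0
    have h1 := (N'.comap f).card_mul_index
    have h2 := R.card_mul_index
    have h3 := N'.card_mul_index
    rw [Subgroup.index_comap_of_surjective _ hf] at h1
    have h4 : R.index = Nat.card PP := Nat.card_congr e.toEquiv
    rw [h4, ← h3, hcardN] at h2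
    have hi : 0 < N'.index := Nat.pos_of_ne_zero Subgroup.FiniteIndex.index_ne_zero
    rw [← h2] at h1
    exact Nat.eq_of_mul_eq_mul_right hi (h1.trans (by ring))
  · let ρ : M'.comap f →* M' := f.subgroupComap M'
    have hρ : Function.Surjective ρ := fun m => by
      obtain ⟨x, hx⟩ := hf m
      exact ⟨⟨x, show f x ∈ M' by rw [hx]; exact m.2⟩, Subtype.ext hx⟩
    have hk : (θ.comp ρ).ker = (N'.comap f).subgroupOf (M'.comap f) := by
      rw [← MonoidHom.comap_ker, hθk]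
      rfl
    exact ⟨(QuotientGroup.quotientMulEquivOfEq hk.symm).trans
      (QuotientGroup.quotientKerEquivOfSurjective _ (hθs.comp hρ))⟩
  · rw [Subgroup.index_comap_of_surjective _ hf, hidx]

end H84.Mon.Three
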