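import Cfsg.Agent.CompLayer
import Cfsg.Agent.H1.Fitting
import Cfsg.Agent.H84.Invariant

/-!
An involution with a large extraspecial-like subgroup in a group with central odd core: its
conjugates in that subgroup lie in the layer.
-/

set_option autoImplicit false

namespace H84.Mon

open Cfsg

variable {H : Type*} [Group H] [Finite H]

/-- the hypotheses -/
structure LargeData (z : H) (B R : Subgroup H) : Prop where
  zsq : z * z = 1
  oddB : Odd (Nat.card B)
  centB : B ≤ Subgroup.center H
  zR : z ∈ R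
  Rz : ∀ r ∈ R, r * z = z * r
  norm : ∀ c : H, c * z = z * c → ∀ r ∈ R, c * r * c⁻¹ ∈ R
  cent : ∀ c : H, c * z = z * c → (∀ r ∈ R, c * r = r * c) → c ∈ B ∨ z * c ∈ B
  center : ∀ r ∈ R, (∀ w ∈ R, r * w = w * r) → r = 1 ∨ r = z
  comm : ∀ r ∈ R, ∀ w ∈ R, r * w * r⁻¹ * w⁻¹ = 1 ∨ r * w * r⁻¹ * w⁻¹ = z
  four : ∃ x ∈ R, IsConj z x ∧ IsConj z (z * x)
  noncomm : ∃ x y, IsConj z x ∧ IsConj z y ∧ x * y ≠ y * x

namespace LargeData

variable {z : H} {B R : Subgroup H} (L : LargeData z B R)
include L

omit [Finite H] in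
theorem zB : z ∉ B := by
  intro hz
  obtain ⟨x, y, hx, hy, hne⟩ := L.noncomm
  obtain ⟨a, rfl⟩ := isConj_iff.mp hx
  refine hne ?_
  have hc := L.centB hz
  rw [Subgroup.mem_center_iff.mp hc a, mul_inv_cancel_right]
  exact (Subgroup.mem_center_iff.mp hc y).symm

theorem fixed_odd {K : Subgroup H} [K.Normal] (hK : Odd (Nat.card K)) {x : H} (hx : IsConj z x)
    {k : H} (hk : k ∈ K) (hkx : k * x = x * k) : k ∈ B := by
  obtain ⟨a, rfl⟩ := isConj_iff.mp hx
  set c := a⁻¹ * k * a with hc
  have hcK : c ∈ K := by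
    have := (inferInstance : K.Normal).conj_mem k hk a⁻¹
    rwa [inv_inv] at this
  have hcz : c * z = z * c := by
    rw [hc]
    calc a⁻¹ * k * a * z = a⁻¹ * (k * (a * z * a⁻¹)) * a := by group
      _ = a⁻¹ * ((a * z * a⁻¹) * k) * a := by rw [hkx]
      _ = z * (a⁻¹ * k * a) := by group
  have hcB : c ∈ B := by
    have hodd : ∀ u : H, u ∈ K → u * u = 1 → u = 1 := fun u hu h2 => by
      have h1 : orderOf u ∣ 2 := orderOf_dvd_of_pow_eq_one (by rw [sq, h2])
      rcases (Nat.dvd_prime Nat.prime_two).mp h1 with e | e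
      · exact orderOf_eq_one_iff.mp e
      · have := Subgroup.orderOf_dvd_natCard K hu
        rw [e] at this
        exact absurd (even_iff_two_dvd.mpr this) (Nat.not_even_iff_odd.mpr hK)
    have hcomm : ∀ r ∈ R, c * r = r * c := by
      intro r hr
      set u := c * r * c⁻¹ * r⁻¹ with hu
      have huR : u ∈ R := mul_mem (L.norm c hcz r hr) (inv_mem hr)
      have huK : u ∈ K := by
        rw [hu, show c * r * c⁻¹ * r⁻¹ = c * (r * c⁻¹ * r⁻¹) by group]
        exact mul_mem hcK ((inferInstance : K.Normal).conj_mem _ (inv_mem hcK) r)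
      suffices u = 1 by rw [hu] at this; exact mul_inv_eq_iff_eq_mul.mp (mul_inv_eq_one.mp this)
      by_contra hne
      have hzK : z ∈ K := by
        by_cases hall : ∀ w ∈ R, u * w = w * u
        · rcases L.center u huR hall with e | e
          · exact absurd e hne
          · exact e ▸ huK
        · push Not at hall
          obtain ⟨w, hw, hne'⟩ := hall
          rcases L.comm u huR w hw with e | e
          · exact absurd (mul_inv_eq_iff_eq_mul.mp (mul_inv_eq_one.mp e)) hne'
          · rw [← e, show u * w * u⁻¹ * w⁻¹ = u * (w * u⁻¹ * w⁻¹) by group]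
            exact mul_mem huK ((inferInstance : K.Normal).conj_mem _ (inv_mem huK) w)
      exact L.zB (by rw [hodd z hzK L.zsq]; exact one_mem B)
    rcases L.cent c hcz hcomm with h | h
    · exact h
    · exfalso
      have h1 : z * c * (z * c) = c * c := by
        calc z * c * (z * c) = z * (c * z) * c := by group
          _ = z * z * (c * c) := by rw [hcz]; group
          _ = c * c := by rw [L.zsq, one_mul]
      -- `c` has odd order, so it is a power of `(z c)²`
      obtain ⟨m, hm⟩ := hK
      have h2 : c ^ (2 * m + 1) = 1 := by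
        rw [← hm]; exact congrArg Subtype.val (pow_card_eq_one' (x := (⟨c, hcK⟩ : K)))
      have h3 : c = (z * c * (z * c)) ^ (m + 1) := by
        rw [h1, ← sq, ← pow_mul, show 2 * (m + 1) = (2 * m + 1) + 1 by ring, pow_succ, h2, one_mul]
      have h4 : c ∈ B := h3 ▸ pow_mem (mul_mem h h) _
      exact L.zB (by simpa using mul_mem h (inv_mem h4))
  have : k = a * c * a⁻¹ := by rw [hc]; group
  rw [this, Subgroup.mem_center_iff.mp (L.centB hcB) a, mul_inv_cancel_right]
  exact hcB

/-- normal subgroups of odd order lie in `B` -/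
theorem odd_le {K : Subgroup H} [K.Normal] (hK : Odd (Nat.card K)) : K ≤ B := by
  obtain ⟨m, hm⟩ := hK
  have hsq : ∀ u ∈ K, ∃ v : H, v ∈ K ∧ v * v = u ∧ ∀ a : H, a * u * a⁻¹ = u⁻¹ → a * v * a⁻¹ = v⁻¹ := by
    intro u hu
    refine ⟨u ^ (m + 1), pow_mem hu _, ?_, fun a ha => ?_⟩
    · rw [← pow_add, show m + 1 + (m + 1) = (2 * m + 1) + 1 by ring, pow_succ, ← hm,
        show u ^ Nat.card K = 1 from congrArg Subtype.val (pow_card_eq_one' (x := (⟨u, hu⟩ : K))),
        one_mul]
    · rw [← conj_pow, ha, inv_pow]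
  have hKodd : Odd (Nat.card K) := ⟨m, hm⟩
  have inv : ∀ x : H, IsConj z x → x * x = 1 → ∀ k ∈ K, x * k * x * k ∈ B := by
    intro x hx hxx k hk
    have hxi : x⁻¹ = x := inv_eq_of_mul_eq_one_right hxx
    set n := k⁻¹ * (x * k * x) with hn
    have hxk : x * k * x ∈ K := by
      have := (inferInstance : K.Normal).conj_mem k hk x
      rwa [hxi] at this
    have hnK : n ∈ K := mul_mem (inv_mem hk) hxk
    have hninv : x * n * x⁻¹ = n⁻¹ := by
      rw [hn, hxi]
      calc x * (k⁻¹ * (x * k * x)) * x = x * k⁻¹ * x * k * (x * x) := by group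
        _ = (k⁻¹ * (x * k * x))⁻¹ := by rw [hxx, mul_inv_rev, mul_inv_rev, mul_inv_rev, inv_inv, hxi]; group
    obtain ⟨v, hv, hvv, hvx⟩ := hsq n hnK
    have hvx' := hvx x hninv
    rw [hxi] at hvx'
    have hkv : (k * v) * x = x * (k * v) := by
      have e : x * (k * v) * x = k * v := by
        calc x * (k * v) * x = (x * k * x) * (x * v * x) := by
              rw [show x * k * x * (x * v * x) = x * k * (x * x) * v * x by group, hxx]; group
          _ = k * n * v⁻¹ := by rw [hvx', hn]; group
          _ = k * v := by rw [← hvv]; group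
      calc k * v * x = x * (k * v) * x * x := by rw [e]
        _ = x * (k * v) * (x * x) := by group
        _ = x * (k * v) := by rw [hxx, mul_one]
    have hb := L.fixed_odd hKodd hx (mul_mem hk hv) hkv
    have hbc := Subgroup.mem_center_iff.mp (L.centB hb)
    have : x * k * x * k = (k * v) * (k * v) := by
      rw [show x * k * x = k * n by rw [hn]; group, ← hvv]
      calc k * (v * v) * k = (k * v) * (v * k) := by group
        _ = (k * v) * (k * v) := by
          have := hbc k⁻¹
          rw [inv_mul_cancel_left] at this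
          congr 1
          calc v * k = (k * v * k⁻¹) * k := by rw [← this]
            _ = k * v := by group
    rw [this]; exact mul_mem hb hb
  obtain ⟨x, hxR, hx, hzx⟩ := L.four
  have hxx : x * x = 1 := by
    obtain ⟨a, rfl⟩ := isConj_iff.mp hx
    rw [show a * z * a⁻¹ * (a * z * a⁻¹) = a * (z * z) * a⁻¹ by group, L.zsq]; group
  have hxz := L.Rz x hxR
  have hzxzx : z * x * (z * x) = 1 := by
    rw [mul_assoc, ← mul_assoc x, hxz, mul_assoc z x x, hxx, mul_one, L.zsq]
  intro k hk
  have h1 := inv z (IsConj.refl z) L.zsq k hk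
  have h2 := inv x hx hxx k hk
  have h3 := inv (z * x) hzx hzxzx k hk
  have hxk : x * k * x ∈ K := by
    have := (inferInstance : K.Normal).conj_mem k hk x
    rwa [inv_eq_of_mul_eq_one_right hxx] at this
  have h4 := inv z (IsConj.refl z) L.zsq (x * k * x) hxk
  have e3 : z * x * k * (z * x) = z * (x * k * x) * z := by
    calc z * x * k * (z * x) = z * x * k * (x * z) := by rw [hxz]
      _ = _ := by group
  rw [e3] at h3
  -- `z (x k x) z` is both the inverse of `k` and of `x k x` modulo `B`
  have h5 : (x * k * x)⁻¹ * k ∈ B := by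
    have h6 := mul_mem (inv_mem h4) h3
    rwa [show (z * (x * k * x) * z * (x * k * x))⁻¹ * (z * (x * k * x) * z * k)
      = (x * k * x)⁻¹ * k by group] at h6
  have h7 : k * k ∈ B := by
    have := mul_mem h2 h5
    have hc := Subgroup.mem_center_iff.mp (L.centB h5) (x * k * x * k)
    rw [hc] at this
    rwa [show (x * k * x)⁻¹ * k * (x * k * x * k) = (x * k * x)⁻¹ * (k * (x * k * x)) * k by group,
      show k * (x * k * x) = (x * k * x) * k from ?_, ← mul_assoc (x * k * x)⁻¹,
      inv_mul_cancel, one_mul] at this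
    have h2' := Subgroup.mem_center_iff.mp (L.centB h2) k
    calc k * (x * k * x) = k * (x * k * x * k) * k⁻¹ := by group
      _ = (x * k * x * k) * k * k⁻¹ := by rw [h2']
      _ = x * k * x * k := by group
  obtain ⟨v, -, -, -⟩ := hsq k hk
  have : k = (k * k) ^ (m + 1) := by
    rw [← sq, ← pow_mul, show 2 * (m + 1) = (2 * m + 1) + 1 by ring, pow_succ, ← hm,
      show k ^ Nat.card K = 1 from congrArg Subtype.val (pow_card_eq_one' (x := (⟨k, hk⟩ : K))), one_mul]
  rw [this]; exact pow_mem h7 _

/-- normal subgroups of even order contain `z` -/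
theorem z_mem_of_even {N : Subgroup H} [hN : N.Normal] (heven : 2 ∣ Nat.card N) : z ∈ N := by
  classical
  haveI : Fact (Nat.Prime 2) := ⟨Nat.prime_two⟩
  have hzi : z⁻¹ = z := inv_eq_of_mul_eq_one_right L.zsq
  let E : Subgroup H := Subgroup.zpowers z
  have hE : IsPGroup 2 E := by
    rintro ⟨a, n, rfl⟩
    exact ⟨1, Subtype.ext (by
      show (z ^ n) ^ 2 ^ 1 = 1
      rw [pow_one, ← zpow_natCast, ← zpow_mul, mul_comm, zpow_mul, zpow_natCast, sq, L.zsq, one_zpow])⟩
  letI := H84.conjSetAction E (N : Set H) fun e _ x hx => hN.conj_mem x hx e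
  have hmod := hE.card_modEq_card_fixedPoints (N : Set H)
  have hfix : Nat.card (MulAction.fixedPoints E (N : Set H))
      = Nat.card (N ⊓ Subgroup.centralizer {z} : Subgroup H) := by
    refine Nat.card_congr ⟨fun x => ⟨x.1, x.1.2, ?_⟩, fun x => ⟨⟨x.1, x.2.1⟩, ?_⟩,
      fun x => rfl, fun x => rfl⟩
    · show (x.1 : H) ∈ Subgroup.centralizer {z}
      rw [Subgroup.mem_centralizer_singleton_iff]
      have h : z * (x.1 : H) * z⁻¹ = x.1 := congrArg Subtype.val (x.2 ⟨z, Subgroup.mem_zpowers z⟩)
      exact (mul_inv_eq_iff_eq_mul.mp h).symm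
    · intro e
      apply Subtype.ext
      show (e : H) * x.1 * (e : H)⁻¹ = x.1
      obtain ⟨n, hn⟩ := e.2
      have hc : Commute z x.1 := (Subgroup.mem_centralizer_singleton_iff.mp x.2.2).symm
      rw [← hn, (hc.zpow_left n).eq, mul_inv_cancel_right]
  rw [hfix] at hmod
  have h2 : 2 ∣ Nat.card (N ⊓ Subgroup.centralizer {z} : Subgroup H) := by
    have h0 : Nat.card ((N : Set H)) ≡ 0 [MOD 2] := Nat.modEq_zero_iff_dvd.mpr heven
    exact Nat.modEq_zero_iff_dvd.mp (hmod.symm.trans h0)
  obtain ⟨⟨i, hiN, hic⟩, hi⟩ := exists_prime_orderOf_dvd_card' 2 h2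
  rw [← Subgroup.orderOf_coe] at hi
  change orderOf i = 2 at hi
  have hiz : i * z = z * i := Subgroup.mem_centralizer_singleton_iff.mp hic
  by_contra hz
  have hcomm : ∀ r ∈ R, i * r = r * i := by
    intro r hr
    set u := i * r * i⁻¹ * r⁻¹ with hu
    have huR : u ∈ R := mul_mem (L.norm i hiz r hr) (inv_mem hr)
    have huN : u ∈ N := by
      rw [hu, show i * r * i⁻¹ * r⁻¹ = i * (r * i⁻¹ * r⁻¹) by group]
      exact mul_mem hiN (hN.conj_mem _ (inv_mem hiN) r)
    by_cases h1 : u = 1
    · rw [hu] at h1; exact mul_inv_eq_iff_eq_mul.mp (mul_inv_eq_one.mp h1)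
    exfalso
    by_cases hall : ∀ w ∈ R, u * w = w * u
    · rcases L.center u huR hall with e | e
      · exact h1 e
      · exact hz (e ▸ huN)
    · push Not at hall
      obtain ⟨w, hw, hne'⟩ := hall
      rcases L.comm u huR w hw with e | e
      · exact hne' (mul_inv_eq_iff_eq_mul.mp (mul_inv_eq_one.mp e))
      · apply hz
        rw [← e, show u * w * u⁻¹ * w⁻¹ = u * (w * u⁻¹ * w⁻¹) by group]
        exact mul_mem huN (hN.conj_mem _ (inv_mem huN) w)
  have hii : i * i = 1 := by rw [← sq, ← hi, pow_orderOf_eq_one]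
  have hB2 : ∀ u ∈ B, u * u = 1 → u = 1 := fun u hu h => by
    have h1 : orderOf u ∣ 2 := orderOf_dvd_of_pow_eq_one (by rw [sq, h])
    rcases (Nat.dvd_prime Nat.prime_two).mp h1 with e | e
    · exact orderOf_eq_one_iff.mp e
    · have := Subgroup.orderOf_dvd_natCard B hu
      rw [e] at this
      exact absurd (even_iff_two_dvd.mpr this) (Nat.not_even_iff_odd.mpr L.oddB)
  rcases L.cent i hiz hcomm with h | h
  · rw [hB2 i h hii, orderOf_one] at hi; omega
  · have h1 := hB2 _ h (by
      rw [mul_assoc, ← mul_assoc i, hiz, mul_assoc z i i, hii, mul_one, L.zsq])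
    apply hz
    rw [eq_inv_of_mul_eq_one_left h1]
    exact inv_mem hiN

/-- conjugates of `z` lie in the layer -/
theorem mem_layer {x : H} (hx : IsConj z x) : x ∈ layer H := by
  haveI hl : (layer H).Normal := inferInstance
  suffices hz : z ∈ layer H by
    obtain ⟨a, rfl⟩ := isConj_iff.mp hx
    exact hl.conj_mem z hz a
  by_contra hz
  have hlB : layer H ≤ B := by
    refine L.odd_le (Nat.not_even_iff_odd.mp fun he => hz (L.z_mem_of_even (even_iff_two_dvd.mp he)))
  have hfB : fittingSubgroup H ≤ B := by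
    rw [H1.fittingSubgroup_eq_iSup_pCore, iSup_le_iff]
    intro p
    haveI : Fact (p : ℕ).Prime := ⟨p.2⟩
    haveI := H1.pCore_normal' (p : ℕ) H
    obtain ⟨n, hn⟩ := (H1.isPGroup_pCore (p : ℕ) H).exists_card_eq
    rcases eq_or_ne (p : ℕ) 2 with h2 | h2
    · rcases Nat.eq_zero_or_pos n with rfl | hnpos
      · rw [pow_zero] at hn
        rw [Subgroup.card_eq_one.mp hn]; exact bot_le
      exfalso
      set T := Cfsg.pCore (p : ℕ) H
      haveI : Nontrivial T := Finite.one_lt_card_iff_nontrivial.mp (by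
        rw [hn, h2]; exact Nat.one_lt_two_pow hnpos.ne')
      haveI := (H1.isPGroup_pCore (p : ℕ) H).center_nontrivial
      set Z := (Subgroup.center T).map T.subtype
      haveI : Z.Normal := inferInstance
      have hdvd : 2 ∣ Nat.card Z := by
        rw [← Nat.card_congr (Subgroup.equivMapOfInjective _ _ T.subtype_injective).toEquiv]
        obtain ⟨k, hk⟩ := ((H1.isPGroup_pCore (p : ℕ) H).to_subgroup (Subgroup.center T)).exists_card_eq
        rw [hk, h2]
        refine dvd_pow_self 2 fun hk0 => ?_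
        rw [hk0, pow_zero] at hk
        exact absurd hk (Finite.one_lt_card_iff_nontrivial.mpr inferInstance).ne'
      have hzZ := L.z_mem_of_even hdvd
      obtain ⟨u, v, hu, hv, hne⟩ := L.noncomm
      have hall : ∀ w, IsConj z w → w ∈ Z := fun w hw => by
        obtain ⟨a, rfl⟩ := isConj_iff.mp hw
        exact (inferInstance : Z.Normal).conj_mem z hzZ a
      obtain ⟨u', hu', rfl⟩ := hall u hu
      obtain ⟨v', -, rfl⟩ := hall v hv
      exact hne (congrArg Subtype.val (Subgroup.mem_center_iff.mp hu' v')).symm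
    · refine L.odd_le ?_
      rw [hn]
      exact (p.2.odd_of_ne_two h2).pow
  refine L.zB (Cfsg.Comp.centralizer_fStar_le.trans (sup_le hlB hfB) ?_)
  rw [Subgroup.mem_centralizer_iff]
  intro w hw
  exact ((Subgroup.mem_center_iff.mp (L.centB ((sup_le hlB hfB) hw))) z).symm

end LargeData

end H84.Mon
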