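import Cfsg.Agent.H84.Monster.Span
import Cfsg.Agent.H56.MonsterSign
import Cfsg.Agent.H95.MatElt

/-!
Relations between coded automorphisms checked on the coordinate vectors.
-/

set_option autoImplicit false

namespace H84.Mon

open Cfsg H95 H56M

/-- the checks on a matrix -/
def matCheck (E : List (List ℤ)) : Bool :=
  matOK E && decide (∀ a b : GolayPt, ∑ p, entryL E p a * entryL E p b = if a = b then 64 else 0)

/-- the matrix as an automorphism -/
def mkMat (E : List (List ℤ)) (h : matCheck E = true) : MatData :=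
  ⟨E, by simp only [matCheck, Bool.and_eq_true] at h; exact h.1,
    by simp only [matCheck, Bool.and_eq_true, decide_eq_true_eq] at h; exact h.2⟩

/-- automorphisms agreeing on the coordinate vectors are equal -/
theorem co0_ext_lists {g g' : Co0}
    (h : ∀ n : Fin 24, vecL ((g • eight (H90.pt n) : leechLattice) : GolayPt → ℤ)
      = vecL ((g' • eight (H90.pt n) : leechLattice) : GolayPt → ℤ)) : g = g' := by
  have : g'⁻¹ * g = 1 := co0_eq_one_of_eights fun i => by
    have := eq_of_vecL (h (H90.idx i))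
    rw [H90.pt_idx] at this
    rw [mul_smul, this, inv_smul_smul]
  exact (inv_mul_eq_one.mp this).symm

/-- a permutation of the list of coordinates -/
def Cfg.permL (C : Cfg) (k : ℕ) (v : List ℤ) : List ℤ :=
  List.ofFn fun i : Fin 24 => v.getD (C.mv (C.p - k) i.val) 0

/-- the relation `g b = b^k g` on lists -/
def Cfg.conjOK (C : Cfg) (E : List (List ℤ)) (k : ℕ) : Bool :=
  decide (k ≤ C.p) && (List.finRange 24).all fun n =>
    decide (applyL E (eightL (Fin.ofNat 24 (C.mv 1 n.val))) = C.permL k (applyL E (eightL n)))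

theorem Cfg.vecL_aut_pow (C : Cfg) (hC : C.ok = true) {k : ℕ} (hk : k ≤ C.p) (v : leechLattice) :
    vecL ((C.aut hC ^ k • v : leechLattice) : GolayPt → ℤ) = C.permL k (vecL (v : GolayPt → ℤ)) := by
  conv_lhs => unfold vecL
  unfold Cfg.permL
  congr 1
  funext i
  have hlt : C.mv (C.p - k) i.val < 24 := by
    have := C.idx_iter hC (C.p - k) (H90.pt i)
    rw [H90.idx_pt] at this
    exact this ▸ (H90.idx _).isLt
  rw [C.hval hC, vecL_getD _ hlt]
  refine congrArg (v : GolayPt → ℤ) (H90.idx_injective ?_)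
  rw [H90.idx_pt]
  apply Fin.ext
  show (H90.idx _).val = C.mv (C.p - k) i.val
  have h1 : (C.perm hC ^ k).symm (H90.pt i) = (C.perm hC ^ (C.p - k)) (H90.pt i) := by
    rw [Equiv.symm_apply_eq, ← Equiv.Perm.mul_apply, ← pow_add, Nat.add_sub_cancel' hk,
      C.perm_pow hC, Equiv.Perm.one_apply]
  rw [h1, Equiv.Perm.coe_pow, C.idx_iter hC, H90.idx_pt]

theorem Cfg.aut_eight (C : Cfg) (hC : C.ok = true) (n : Fin 24) :
    C.aut hC • eight (H90.pt n) = eight (H90.pt (Fin.ofNat 24 (C.mv 1 n.val))) := by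
  refine Subtype.ext ?_
  rw [Cfg.aut, mono_smul]
  show signedPerm _ ∅ (Pi.single (H90.pt n) 8) = Pi.single _ 8
  rw [signedPerm_single]
  simp only [Finset.notMem_empty, if_false]
  congr 1
  apply H90.idx_injective
  rw [H90.idx_pt]
  apply Fin.ext
  rw [(C.perm_repr hC).apply, H90.idx_pt, Fin.val_ofNat]
  refine (Nat.mod_eq_of_lt ?_).symm
  show H90.img C.N n.val < 24
  exact (C.perm_repr hC).img_lt n

theorem Cfg.conj_of_ok (C : Cfg) (hC : C.ok = true) {E : List (List ℤ)} (hE : matCheck E = true)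
    {k : ℕ} (h : C.conjOK E k = true) :
    (mkMat E hE).elt * C.aut hC * (mkMat E hE).elt⁻¹ = C.aut hC ^ k := by
  simp only [Cfg.conjOK, Bool.and_eq_true, decide_eq_true_eq, List.all_eq_true] at h
  rw [mul_inv_eq_iff_eq_mul]
  refine co0_ext_lists fun n => ?_
  rw [mul_smul, C.aut_eight hC, (mkMat E hE).vecL_elt, vecL_eight, mul_smul, C.vecL_aut_pow hC h.1,
    (mkMat E hE).vecL_elt, vecL_eight]
  exact h.2 n (List.mem_finRange _)

theorem setOf'_supp {c : ℕ} (h : H90.isCode c = true ∧ c < 2 ^ 24) :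
    H90.setOf' c ∈ supports (golayCode : Set (GolayPt → ZMod 2)) :=
  ⟨H90.wordOf c, (H90.wordOf_mem_iff h.2).mpr h.1, H90.support₂_wordOf c⟩

/-- the relation `X H = H ε` on lists -/
def signOK (X H : List (List ℤ)) (c : ℕ) : Bool :=
  H90.isCode c && decide (c < 2 ^ 24) && (List.finRange 24).all fun n =>
    decide (applyL X (applyL H (eightL n)) = applyL H
      (if c.testBit n.val then (eightL n).map Neg.neg else eightL n))

theorem sign_of_ok {X H : List (List ℤ)} {c : ℕ} (hX : matCheck X = true) (hH : matCheck H = true)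
    (h : signOK X H c = true) : ∃ hc : H90.setOf' c ∈ supports (golayCode : Set (GolayPt → ZMod 2)),
      (mkMat X hX).elt = (mkMat H hH).elt * mono 1 (H90.setOf' c) (one_mem _) hc * (mkMat H hH).elt⁻¹ := by
  simp only [signOK, Bool.and_eq_true, decide_eq_true_eq, List.all_eq_true] at h
  refine ⟨setOf'_supp ⟨h.1.1, h.1.2⟩, ?_⟩
  rw [eq_mul_inv_iff_mul_eq]
  refine co0_ext_lists fun n => ?_
  rw [mul_smul, (mkMat X hX).vecL_elt, (mkMat H hH).vecL_elt, vecL_eight, mul_smul,
    (mkMat H hH).vecL_elt]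
  refine (h.2 n (List.mem_finRange _)).trans (congrArg _ ?_)
  have e : ((mono 1 (H90.setOf' c) (one_mem _) (setOf'_supp ⟨h.1.1, h.1.2⟩) •
      eight (H90.pt n) : leechLattice) : GolayPt → ℤ)
      = fun i => if c.testBit n.val then - (eight (H90.pt n) : GolayPt → ℤ) i
        else (eight (H90.pt n) : GolayPt → ℤ) i := by
    funext i
    rw [mono_smul]
    simp only [signedPerm, show (1 : Equiv.Perm GolayPt).symm i = i from rfl]
    by_cases hi : i = H90.pt n
    · subst hi
      simp [H90.mem_setOf', H90.idx_pt]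
    · have : (eight (H90.pt n) : GolayPt → ℤ) i = 0 := by simp [eight, hi]
      simp [this]
  rw [e, ← vecL_eight]
  cases c.testBit n.val
  · simp [vecL]
  · simp [vecL, List.map_ofFn, Function.comp_def]

end H84.Mon
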