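import Cfsg.Agent.H56.MonsterSign
import Cfsg.Agent.H96.LeechCheck

/-!
A permutation of prime order in the standard frame: the automorphisms commuting with it, or
inverting it, that are trivial modulo two on the lattice vectors it fixes.
-/

set_option autoImplicit false

namespace H84.Mon

open Cfsg H95 H56M

/-- configuration: a permutation code, orbit representatives, coordinates, test vectors -/
structure Cfg where
  p : ℕ
  r : ℕ
  N : ℕ
  reps : List ℕ
  E : List ℕ
  O : List ℕ
  tests : List (ℤ × ℕ)

/-- image of a position -/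
def Cfg.mv (D : Cfg) (j i : ℕ) : ℕ := (H90.img D.N)^[j] i

/-- the vector with value `a` on a mask -/
def vecOf (t : ℤ × ℕ) : GolayPt → ℤ := fun i => if t.2.testBit (H90.idx i).val then t.1 else 0

/-- the checks -/
def Cfg.ok (D : Cfg) : Bool :=
  H90.isPerm D.N && H90.preservesCode D.N &&
  (List.range 24).all (fun i => decide (D.mv D.p i = i ∧ D.mv (D.E.getD i 0) (D.reps.getD (D.O.getD i 0) 0) = i
    ∧ D.O.getD i 0 < D.reps.length ∧ D.E.getD i 0 < D.p)) &&
  (List.range D.reps.length).all (fun o => decide (D.reps.getD o 0 < 24 ∧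
    (o < D.r ∨ D.mv 1 (D.reps.getD o 0) = D.reps.getD o 0))) &&
  D.tests.all (fun t => decide (0 < t.1) && H96.Check.checkB (vecOf t) &&
    decide (dotInt (vecOf t) (vecOf t) = 32) &&
    (List.range 24).all fun i => t.2.testBit (D.mv 1 i) == t.2.testBit i) &&
  (List.range 24).all (fun i => (List.range 24).all fun j =>
    decide (D.O.getD i 0 = D.O.getD j 0) || D.tests.any fun t => t.2.testBit i != t.2.testBit j) &&
  (List.range 24).all (fun i => D.tests.any fun t => t.2.testBit i &&
    (t.2.testBit (D.reps.getD D.r 0) || (List.range 24).any fun j => t.2.testBit j &&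
      D.tests.any fun t' => t'.2.testBit j && t'.2.testBit (D.reps.getD D.r 0)))

/-- the candidate with exponent `a` on the orbits and multiplier `k` -/
def Cfg.cand (D : Cfg) (k : ℕ) (a : List ℕ) : ℕ :=
  H90.packAux (fun i => D.mv (k * D.E.getD i 0 + a.getD (D.O.getD i 0) 0)
    (D.reps.getD (D.O.getD i 0) 0) % 32) 24

/-- tuples below `p` -/
def tuples (p : ℕ) : ℕ → List (List ℕ)
  | 0 => [[]]
  | r + 1 => (List.range p).flatMap fun a => (tuples p r).map (a :: ·)

theorem mem_tuples (p : ℕ) : ∀ (l : List ℕ), (∀ x ∈ l, x < p) → l ∈ tuples p l.length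
  | [], _ => by simp [tuples]
  | a :: l, h => by
    simp only [List.length_cons, tuples, List.mem_flatMap, List.mem_range, List.mem_map]
    exact ⟨a, h a List.mem_cons_self, l, mem_tuples p l fun x hx => h x (List.mem_cons_of_mem _ hx), rfl⟩

/-- only constant exponents preserve the code -/
def Cfg.candOK (D : Cfg) (k : ℕ) (allow : Bool) : Bool :=
  (tuples D.p D.r).all fun a => !H90.preservesCode (D.cand k a) ||
    (allow && a.all fun x => decide (x = a.getD 0 0))

namespace Cfg

variable (D : Cfg) (h : D.ok = true)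
include h

theorem exists_perm : ∃ σ, σ ∈ M24 ∧ H90.Repr σ D.N := by
  simp only [ok, Bool.and_eq_true] at h
  obtain ⟨σ, hσ⟩ := H90.exists_repr h.1.1.1.1.1.1
  exact ⟨σ, (H90.mem_M24_iff_preservesCode hσ).mpr h.1.1.1.1.1.2, hσ⟩

/-- the permutation -/
noncomputable def perm : Equiv.Perm GolayPt := (D.exists_perm h).choose

theorem perm_mem : D.perm h ∈ M24 := (D.exists_perm h).choose_spec.1
theorem perm_repr : H90.Repr (D.perm h) D.N := (D.exists_perm h).choose_spec.2

/-- the lattice automorphism -/
noncomputable def aut : Co0 := mono (D.perm h) ∅ (D.perm_mem h) empty_supp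

theorem aut_smul (v : leechLattice) (i : GolayPt) :
    ((D.aut h • v : leechLattice) : GolayPt → ℤ) i = (v : GolayPt → ℤ) ((D.perm h).symm i) := by
  rw [aut, mono_smul]; simp [signedPerm]

theorem idx_iter (j : ℕ) (i : GolayPt) :
    (H90.idx ((D.perm h)^[j] i)).val = D.mv j (H90.idx i).val := by
  induction j with
  | zero => rfl
  | succ j ih =>
    rw [Function.iterate_succ_apply', (D.perm_repr h).apply, ih, mv, mv,
      Function.iterate_succ_apply']

theorem pos_facts {i : ℕ} (hi : i < 24) :
    D.mv D.p i = i ∧ D.mv (D.E.getD i 0) (D.reps.getD (D.O.getD i 0) 0) = i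
      ∧ D.O.getD i 0 < D.reps.length ∧ D.E.getD i 0 < D.p := by
  simp only [ok, Bool.and_eq_true] at h
  simpa using List.all_eq_true.mp h.1.1.1.1.2 i (List.mem_range.mpr hi)

theorem rep_facts {o : ℕ} (ho : o < D.reps.length) :
    D.reps.getD o 0 < 24 ∧ (o < D.r ∨ D.mv 1 (D.reps.getD o 0) = D.reps.getD o 0) := by
  simp only [ok, Bool.and_eq_true] at h
  simpa using List.all_eq_true.mp h.1.1.1.2 o (List.mem_range.mpr ho)

theorem test_facts {t : ℤ × ℕ} (ht : t ∈ D.tests) :
    0 < t.1 ∧ vecOf t ∈ leechLattice ∧ dotInt (vecOf t) (vecOf t) = 32 ∧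
      ∀ i < 24, t.2.testBit (D.mv 1 i) = t.2.testBit i := by
  simp only [ok, Bool.and_eq_true] at h
  have := List.all_eq_true.mp h.1.1.2 t ht
  simp only [Bool.and_eq_true, decide_eq_true_eq, List.all_eq_true, List.mem_range, beq_iff_eq] at this
  exact ⟨this.1.1.1, H96.Check.checkB_spec this.1.1.2, this.1.2, this.2⟩

theorem separated {i j : ℕ} (hi : i < 24) (hj : j < 24)
    (hs : ∀ t ∈ D.tests, t.2.testBit i = t.2.testBit j) : D.O.getD i 0 = D.O.getD j 0 := by
  simp only [ok, Bool.and_eq_true] at h
  have := List.all_eq_true.mp (List.all_eq_true.mp h.1.2 i (List.mem_range.mpr hi)) j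
    (List.mem_range.mpr hj)
  simp only [Bool.or_eq_true, decide_eq_true_eq, List.any_eq_true, bne_iff_ne] at this
  exact this.resolve_right fun ⟨t, ht, hne⟩ => hne (hs t ht)

theorem connected {i : ℕ} (hi : i < 24) : ∃ t ∈ D.tests, t.2.testBit i = true ∧
    (t.2.testBit (D.reps.getD D.r 0) = true ∨ ∃ j < 24, t.2.testBit j = true ∧
      ∃ t' ∈ D.tests, t'.2.testBit j = true ∧ t'.2.testBit (D.reps.getD D.r 0) = true) := by
  simp only [ok, Bool.and_eq_true] at h
  simpa [List.any_eq_true] using List.all_eq_true.mp h.2 i (List.mem_range.mpr hi)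

theorem perm_pow : D.perm h ^ D.p = 1 := by
  refine Equiv.ext fun i => H90.idx_injective (Fin.ext ?_)
  rw [Equiv.Perm.coe_pow, D.idx_iter h, (D.pos_facts h (H90.idx i).isLt).1, Equiv.Perm.one_apply]

omit h in
theorem mv_add (a b i : ℕ) : D.mv (a + b) i = D.mv a (D.mv b i) := Function.iterate_add_apply _ a b i

theorem test_fixed {t : ℤ × ℕ} (ht : t ∈ D.tests) :
    D.aut h • (⟨vecOf t, (D.test_facts h ht).2.1⟩ : leechLattice)
      = ⟨vecOf t, (D.test_facts h ht).2.1⟩ := by
  refine Subtype.ext (funext fun i => ?_)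
  rw [D.aut_smul h]
  have e := (D.test_facts h ht).2.2.2 _ (H90.idx ((D.perm h).symm i)).isLt
  rw [← D.idx_iter h 1, Function.iterate_one, Equiv.apply_symm_apply] at e
  simp only [vecOf, e]

/-- the automorphisms conjugating the permutation to its `k`-th power that are trivial modulo two on
fixed vectors -/
theorem kernel_cases {k : ℕ} {allow : Bool} (hk : D.candOK k allow = true) {g : Co0}
    (hconj : g * D.aut h * g⁻¹ = D.aut h ^ k)
    (htriv : ∀ v : leechLattice, D.aut h • v = v → cls (g • v) = cls v)
    (hfix : cls (g • eight none) = cls (eight none)) :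
    allow = true ∧ (k = 1 → ∃ j, g = D.aut h ^ j ∨ g = D.aut h ^ j * negOne) := by
  obtain ⟨σ, c, hσ, hc, hg⟩ := mono_of_fix_frame hfix
  subst hg
  set π := D.perm h with hπ
  -- the permutation part
  have hpow : ∀ n : ℕ, ∀ i : GolayPt, (D.aut h ^ n • eight i : leechLattice) = eight (π^[n] i) := by
    intro n
    induction n with
    | zero => intro i; simp
    | succ n ih =>
      intro i
      rw [pow_succ, mul_smul, aut, show (mono π ∅ _ _ • eight i : leechLattice) = eight (π i) from
        Subtype.ext (by rw [mono_smul]; simp [eight, signedPerm_single]), ← aut, ih,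
        Function.iterate_succ_apply]
  have hcomm : ∀ i, σ (π i) = π^[k] (σ i) := by
    intro i
    have e : mono σ c hσ hc * D.aut h = D.aut h ^ k * mono σ c hσ hc := by
      rw [← hconj]; group
    have e1 := congrArg (fun x : Co0 => x • eight i) e
    simp only [mul_smul] at e1
    rw [show (D.aut h • eight i : leechLattice) = eight (π i) by simpa using hpow 1 i] at e1
    rcases mono_eight hσ hc (π i) with a | a <;> rcases mono_eight hσ hc i with b | b <;>
      rw [a, b] at e1 <;> try rw [co0_neg] at e1
    all_goals rw [hpow] at e1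
    · exact eight_injective e1
    · exact absurd e1 (eight_ne_neg _ _)
    · exact absurd e1.symm (eight_ne_neg _ _)
    · exact eight_injective (neg_injective e1)
  -- the action on the test vectors
  have hsupp : ∀ t ∈ D.tests, (∀ i, t.2.testBit (H90.idx (σ i)).val = t.2.testBit (H90.idx i).val) ∧
      ∀ i j, t.2.testBit (H90.idx i).val = true → t.2.testBit (H90.idx j).val = true →
        (i ∈ c ↔ j ∈ c) := by
    intro t ht
    obtain ⟨ht0, hm, h32, -⟩ := D.test_facts h ht
    set v : leechLattice := ⟨vecOf t, hm⟩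
    have hn : ldot v v = 32 := h32
    have hpm := eq_or_neg_of_cls (by rw [co0_dot, hn]; norm_num) (by rw [hn]; norm_num)
      (htriv v (D.test_fixed h ht)) (Or.inr (by rw [hn]; norm_num))
    have hval : ∀ i, ((mono σ c hσ hc • v : leechLattice) : GolayPt → ℤ) (σ i)
        = if σ i ∈ c then - vecOf t i else vecOf t i := fun i => by
      rw [mono_smul]; simp [signedPerm, v]
    have key : ∀ s : ℤ, (s = 1 ∨ s = -1) → (∀ i, ((mono σ c hσ hc • v : leechLattice) : GolayPt → ℤ) i
        = s * vecOf t i) →
        (∀ i, t.2.testBit (H90.idx (σ i)).val = t.2.testBit (H90.idx i).val) ∧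
        ∀ i, t.2.testBit (H90.idx i).val = true → (i ∈ c ↔ s = -1) := by
      intro s hs hv
      have base : ∀ i, t.2.testBit (H90.idx (σ i)).val = t.2.testBit (H90.idx i).val ∧
          (t.2.testBit (H90.idx i).val = true → (σ i ∈ c ↔ s = -1)) := by
        intro i
        have := hv (σ i)
        rw [hval] at this
        simp only [vecOf] at this
        rcases hs with rfl | rfl <;>
          cases hb : t.2.testBit (H90.idx i).val <;>
          cases hb' : t.2.testBit (H90.idx (σ i)).val <;>
          rw [hb, hb'] at this <;>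
          simp only [if_true, Bool.false_eq_true, if_false, neg_zero, ite_self, mul_zero, one_mul,
            neg_mul] at this <;>
          first
          | omega
          | exact ⟨rfl, fun hf => absurd hf Bool.false_ne_true⟩
          | (refine ⟨rfl, fun _ => ?_⟩; by_cases hci : σ i ∈ c <;> simp only [hci, if_true, if_false, true_iff, false_iff] at this ⊢ <;> omega)
      refine ⟨fun i => (base i).1, fun i hi => ?_⟩
      have hb := base (σ.symm i)
      rw [Equiv.apply_symm_apply] at hb
      exact hb.2 (hb.1 ▸ hi)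
    rcases hpm with e | e
    · obtain ⟨a, b⟩ := key 1 (Or.inl rfl) fun i => by rw [e, one_mul]
      exact ⟨a, fun i j hi hj => (b i hi).trans (b j hj).symm⟩
    · obtain ⟨a, b⟩ := key (-1) (Or.inr rfl) fun i => by rw [e]; simp [v]
      exact ⟨a, fun i j hi hj => (b i hi).trans (b j hj).symm⟩
  -- exponents
  let rp : ℕ → GolayPt := fun o => if ho : D.reps.getD o 0 < 24 then H90.pt ⟨_, ho⟩ else none
  have hrp : ∀ o < D.reps.length, (H90.idx (rp o)).val = D.reps.getD o 0 := by
    intro o ho
    simp only [rp, dif_pos (D.rep_facts h ho).1, H90.idx_pt]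
  have horb : ∀ o < D.reps.length, D.O.getD (H90.idx (σ (rp o))).val 0 = D.O.getD (D.reps.getD o 0) 0 :=
    fun o ho => D.separated h (H90.idx _).isLt (D.rep_facts h ho).1 fun t ht => by
      rw [(hsupp t ht).1, hrp o ho]
  let aF : ℕ → ℕ := fun o => D.E.getD (H90.idx (σ (rp o))).val 0
  let al : List ℕ := (List.range D.r).map aF
  have hiter : ∀ (i : GolayPt), π^[D.E.getD (H90.idx i).val 0] (rp (D.O.getD (H90.idx i).val 0)) = i := by
    intro i
    apply H90.idx_injective; apply Fin.ext
    obtain ⟨-, e, ho, -⟩ := D.pos_facts h (H90.idx i).isLt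
    rw [D.idx_iter h, hrp _ ho, e]
  have hσi : ∀ (n : ℕ) (i : GolayPt), σ (π^[n] i) = π^[k * n] (σ i) := by
    intro n
    induction n with
    | zero => simp
    | succ n ih =>
      intro i
      rw [Function.iterate_succ_apply, ih, hcomm, ← Function.iterate_add_apply]
      congr 1
  have hcand : H90.Repr σ (D.cand k al) := by
    intro n
    rw [cand, H90.img_packAux _ (fun i => Nat.mod_lt _ (by norm_num)), if_pos n.isLt]
    set i := H90.pt n with hi
    have hin : (H90.idx i).val = n.val := by rw [hi, H90.idx_pt]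
    obtain ⟨-, -, ho, -⟩ := D.pos_facts h n.isLt
    set o := D.O.getD n.val 0 with hodef
    have e1 : σ i = π^[k * D.E.getD n.val 0] (σ (rp o)) := by
      conv_lhs => rw [← hiter i]
      rw [hin, hσi]
    have e2 : (H90.idx (σ (rp o))).val = D.mv (al.getD o 0) (D.reps.getD o 0) := by
      have h3 := (D.pos_facts h (H90.idx (σ (rp o))).isLt).2.1
      have hOo : D.O.getD (D.reps.getD o 0) 0 = o := by
        have := D.separated h (D.rep_facts h ho).1 n.isLt fun t ht => ?_
        · rw [this]
        have hinv : ∀ m : ℕ, ∀ q < 24, D.mv m q < 24 ∧ t.2.testBit (D.mv m q) = t.2.testBit q := by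
          intro m
          induction m with
          | zero => exact fun q hq => ⟨hq, rfl⟩
          | succ m ihm =>
            intro q hq
            have hlt : D.mv (m + 1) q < 24 := by
              have := D.idx_iter h (m + 1) (H90.pt ⟨q, hq⟩)
              rw [H90.idx_pt] at this
              exact this ▸ (H90.idx _).isLt
            refine ⟨hlt, ?_⟩
            rw [show m + 1 = 1 + m by omega, D.mv_add, (D.test_facts h ht).2.2.2 _ (ihm q hq).1,
              (ihm q hq).2]
        have := (hinv (D.E.getD n.val 0) _ (D.rep_facts h ho).1).2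
        rw [hodef, (D.pos_facts h n.isLt).2.1] at this
        exact this.symm
      rw [horb o ho, hOo] at h3
      by_cases hor : o < D.r
      · have : al.getD o 0 = aF o := by
          simp [al, List.getD_eq_getElem?_getD, hor]
        rw [this]
        exact h3.symm
      · have hz : al.getD o 0 = 0 := by
          rw [List.getD_eq_default]; simp [al]; omega
        have hfx : ∀ m, D.mv m (D.reps.getD o 0) = D.reps.getD o 0 := by
          intro m
          induction m with
          | zero => rfl
          | succ m ihm =>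
            rw [show m + 1 = 1 + m by omega, D.mv_add, ihm]
            exact (D.rep_facts h ho).2.resolve_left hor
        rw [hz, hfx] at *
        exact h3.symm
    show (H90.idx (σ i)).val = _
    rw [e1, D.idx_iter h, e2, ← D.mv_add]
    refine (Nat.mod_eq_of_lt ?_).symm
    have := D.idx_iter h (k * D.E.getD n.val 0) (σ (rp o))
    rw [e2, ← D.mv_add] at this
    rw [← this]
    exact (H90.idx _).isLt.trans (by norm_num)
  have hlen : al.length = D.r := by simp [al]
  have hall := List.all_eq_true.mp hk al (hlen ▸ mem_tuples D.p al (by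
    intro x hx
    simp only [al, List.mem_map, List.mem_range] at hx
    obtain ⟨o, -, rfl⟩ := hx
    exact (D.pos_facts h (H90.idx _).isLt).2.2.2))
  rw [(H90.mem_M24_iff_preservesCode hcand).mp hσ] at hall
  simp only [Bool.not_true, Bool.false_or, Bool.and_eq_true, List.all_eq_true, decide_eq_true_eq] at hall
  obtain ⟨hallow, hconst⟩ := hall
  refine ⟨hallow, fun hk1 => ⟨al.getD 0 0, ?_⟩⟩
  -- the signs
  have hsign : ∀ i, i ∈ c ↔ rp D.r ∈ c := by
    intro i
    obtain ⟨t, ht, hti, hcase⟩ := D.connected h (H90.idx i).isLt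
    by_cases hr : D.r < D.reps.length
    · rcases hcase with e | ⟨j, hj, htj, t', ht', h'j, h'r⟩
      · exact (hsupp t ht).2 _ _ hti (by rw [hrp _ hr]; exact e)
      · exact ((hsupp t ht).2 i (H90.pt ⟨j, hj⟩) hti (by rw [H90.idx_pt]; exact htj)).trans
          ((hsupp t' ht').2 _ _ (by rw [H90.idx_pt]; exact h'j) (by rw [hrp _ hr]; exact h'r))
    · have hd : D.reps.getD D.r 0 = 0 := List.getD_eq_default _ _ (by omega)
      have hp0 : (H90.idx (rp D.r)).val = 0 := by
        simp only [rp, hd, show (0 : ℕ) < 24 by norm_num, dite_true, H90.idx_pt]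
      rcases hcase with e | ⟨j, hj, htj, t', ht', h'j, h'r⟩
      · exact (hsupp t ht).2 _ _ hti (by rw [hp0, ← hd]; exact e)
      · exact ((hsupp t ht).2 i (H90.pt ⟨j, hj⟩) hti (by rw [H90.idx_pt]; exact htj)).trans
          ((hsupp t' ht').2 _ _ (by rw [H90.idx_pt]; exact h'j) (by rw [hp0, ← hd]; exact h'r))
  set j := al.getD 0 0 with hjdef
  have hσj : σ = π ^ j := by
    refine Equiv.ext fun i => H90.idx_injective (Fin.ext ?_)
    have e := hcand (H90.idx i)
    rw [H90.pt_idx, cand, H90.img_packAux _ (fun i => Nat.mod_lt _ (by norm_num)),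
      if_pos (H90.idx i).isLt] at e
    obtain ⟨-, hn, ho, -⟩ := D.pos_facts h (H90.idx i).isLt
    set o := D.O.getD (H90.idx i).val 0
    have hmv : D.mv (al.getD o 0) (D.reps.getD o 0) = D.mv j (D.reps.getD o 0) := by
      by_cases hor : o < D.r
      · have hm : al.getD o 0 ∈ al := by
          rw [List.getD_eq_getElem _ _ (by omega)]; exact List.getElem_mem _
        rw [hconst _ hm]
      · have hfx : ∀ m, D.mv m (D.reps.getD o 0) = D.reps.getD o 0 := by
          intro m
          induction m with
          | zero => rfl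
          | succ m ihm =>
            rw [show m + 1 = 1 + m by omega, D.mv_add, ihm]
            exact (D.rep_facts h ho).2.resolve_left hor
        rw [hfx, hfx]
    rw [hk1, one_mul, D.mv_add, hmv, ← D.mv_add, Nat.add_comm, D.mv_add, hn] at e
    rw [Equiv.Perm.coe_pow, D.idx_iter h, e]
    have hlt : D.mv j (H90.idx i).val < 24 := by
      rw [← D.idx_iter h]; exact (H90.idx _).isLt
    omega
  have hval : ∀ (n : ℕ) (v : leechLattice) (i : GolayPt),
      ((D.aut h ^ n • v : leechLattice) : GolayPt → ℤ) i
        = (v : GolayPt → ℤ) ((π ^ n : Equiv.Perm GolayPt).symm i) := by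
    intro n
    induction n with
    | zero => intro v i; rw [pow_zero, pow_zero, one_smul]; rfl
    | succ n ih =>
      intro v i
      rw [pow_succ, mul_smul, ih, D.aut_smul h, pow_succ, ← Equiv.Perm.inv_def, ← Equiv.Perm.inv_def,
        ← Equiv.Perm.inv_def, mul_inv_rev, Equiv.Perm.mul_apply]
  by_cases hc0 : rp D.r ∈ c
  · right
    refine co0_ext fun v => Subtype.ext (funext fun i => ?_)
    rw [mul_smul, negOne_smul, co0_neg, mono_smul, AddSubgroup.coe_neg, Pi.neg_apply, hval]
    simp [signedPerm, (hsign i).mpr hc0, hσj]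
  · left
    refine co0_ext fun v => Subtype.ext (funext fun i => ?_)
    rw [mono_smul, hval]
    have hni : i ∉ c := fun x => hc0 ((hsign i).mp x)
    simp only [signedPerm, if_neg hni, hσj]

end Cfg

end H84.Mon
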