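import Cfsg.Agent.H84.Monster.SevenData

/-!
The checks for the element of order seven.
-/

set_option autoImplicit false
set_option maxRecDepth 100000

namespace H84.Mon.Seven

open Cfsg H95 H56M

theorem cfg_ok : cfg.ok = true := by decide +kernel

theorem cand_one : cfg.candOK 1 true = true := by decide +kernel

theorem cand_six : cfg.candOK 6 false = true := by decide +kernel

theorem span_ok : cfg.spanOK U cert = true := by decide +kernel

theorem g3_ok : matCheck g3E = true ∧ cfg.conjOK g3E 3 = true := by decide +kernel

theorem x_ok : matCheck xE = true ∧ cfg.conjOK xE 6 = true := by decide +kernel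

theorem sign_ok : matCheck hE = true ∧ signOK xE hE cMask = true := by decide +kernel

theorem mask_ok : ∃ a b : Fin 24, cMask.testBit a.val = true ∧ cMask.testBit b.val = false := by
  decide +kernel

theorem norms : ∀ u ∈ U, dotInt (listVec u) (listVec u) = 64 := by decide +kernel

theorem noncomm : ∃ u ∈ U, ∃ v ∈ U, dotInt (listVec u) (listVec v) / 8 % 2 = 1 := by decide +kernel

end H84.Mon.Seven
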