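import Cfsg.Agent.H84.Monster.Mats

/-!
Data for the element of order seven of the frame group with three fixed points.
-/

set_option autoImplicit false

namespace H84.Mon.Seven

/-- the permutation with its orbits and test vectors -/
def cfg : Cfg where
  p := 7
  r := 3
  N := 388612383576288822202236265071909549
  reps := [0, 1, 4, 5, 7, 14]
  E := [0, 0, 5, 4, 0, 0, 6, 0, 3, 4, 6, 2, 2, 1, 0, 5, 5, 4, 2, 3, 6, 1, 1, 3]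
  O := [0, 1, 0, 1, 2, 3, 0, 4, 2, 0, 2, 2, 1, 0, 5, 2, 1, 2, 0, 1, 1, 1, 2, 0]
  tests := [(4, 160), (4, 16416), (2, 3739786), (2, 8675909), (2, 4361520)]

/-- norm 64 vectors spanning the fixed classes -/
def U : List (List ℤ) :=
  [[-2, 0, -2, 0, 0, 0, -2, 0, 0, -2, 0, 0, 0, -2, 6, 0, 0, 0, -2, 0, 0, 0, 0, -2],
    [-2, 0, -2, 0, 0, -4, -2, -4, 0, -2, 0, 0, 0, -2, -2, 0, 0, 0, -2, 0, 0, 0, 0, -2],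
    [-2, 0, -2, 0, 0, -4, -2, 4, 0, -2, 0, 0, 0, -2, -2, 0, 0, 0, -2, 0, 0, 0, 0, -2],
    [-2, -2, -2, -2, 0, 0, -2, -2, 0, -2, 0, 0, -2, -2, -2, 0, -2, 0, -2, -2, -2, -2, 0, -2],
    [-2, -2, -2, -2, 0, 0, -2, 2, 0, -2, 0, 0, -2, -2, 2, 0, -2, 0, -2, -2, -2, -2, 0, -2],
    [-1, -1, -1, -1, -1, -5, -1, 3, -1, -1, -1, -1, -1, -1, 3, -1, -1, -1, -1, -1, -1, -1, -1, -1]]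

/-- certificates for the orbit sums of the generators -/
def cert : List (ℕ × List ℤ) :=
  [(0, [0, 0, 0, 0, 0, 0, 0, 0, 0, 0, 0, 0, 0, 0, 0, 0, 0, 0, 0, 0, 0, 0, 0, 0]),
    (30, [2, 4, 2, 4, 0, 4, 2, 0, 0, 2, 0, 0, 4, 2, 2, 0, 4, 0, 2, 4, 4, 4, 0, 2]),
    (0, [0, 0, 0, 0, 0, 0, 0, 0, 0, 0, 0, 0, 0, 0, 0, 0, 0, 0, 0, 0, 0, 0, 0, 0]),
    (30, [2, 4, 2, 4, 0, 4, 2, 0, 0, 2, 0, 0, 4, 2, 2, 0, 4, 0, 2, 4, 4, 4, 0, 2]),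
    (29, [2, 2, 2, 2, 2, 2, 2, -2, 2, 2, 2, 2, 2, 2, -2, 2, 2, 2, 2, 2, 2, 2, 2, 2]),
    (29, [2, 2, 2, 2, 0, 16, 2, -2, 0, 2, 0, 0, 2, 2, -2, 0, 2, 0, 2, 2, 2, 2, 0, 2]),
    (0, [0, 0, 0, 0, 0, 0, 0, 0, 0, 0, 0, 0, 0, 0, 0, 0, 0, 0, 0, 0, 0, 0, 0, 0]),
    (30, [2, 2, 2, 2, 0, 4, 2, 14, 0, 2, 0, 0, 2, 2, 2, 0, 2, 0, 2, 2, 2, 2, 0, 2]),
    (29, [2, 2, 2, 2, 2, 2, 2, -2, 2, 2, 2, 2, 2, 2, -2, 2, 2, 2, 2, 2, 2, 2, 2, 2]),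
    (0, [0, 0, 0, 0, 0, 0, 0, 0, 0, 0, 0, 0, 0, 0, 0, 0, 0, 0, 0, 0, 0, 0, 0, 0]),
    (29, [2, 2, 2, 2, 2, 2, 2, -2, 2, 2, 2, 2, 2, 2, -2, 2, 2, 2, 2, 2, 2, 2, 2, 2]),
    (29, [2, 2, 2, 2, 2, 2, 2, -2, 2, 2, 2, 2, 2, 2, -2, 2, 2, 2, 2, 2, 2, 2, 2, 2]),
    (30, [2, 4, 2, 4, 0, 4, 2, 0, 0, 2, 0, 0, 4, 2, 2, 0, 4, 0, 2, 4, 4, 4, 0, 2]),
    (0, [0, 0, 0, 0, 0, 0, 0, 0, 0, 0, 0, 0, 0, 0, 0, 0, 0, 0, 0, 0, 0, 0, 0, 0]),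
    (0, [-2, 0, -2, 0, 0, 0, -2, 0, 0, -2, 0, 0, 0, -2, 14, 0, 0, 0, -2, 0, 0, 0, 0, -2]),
    (29, [2, 2, 2, 2, 2, 2, 2, -2, 2, 2, 2, 2, 2, 2, -2, 2, 2, 2, 2, 2, 2, 2, 2, 2]),
    (30, [2, 4, 2, 4, 0, 4, 2, 0, 0, 2, 0, 0, 4, 2, 2, 0, 4, 0, 2, 4, 4, 4, 0, 2]),
    (29, [2, 2, 2, 2, 2, 2, 2, -2, 2, 2, 2, 2, 2, 2, -2, 2, 2, 2, 2, 2, 2, 2, 2, 2]),
    (0, [0, 0, 0, 0, 0, 0, 0, 0, 0, 0, 0, 0, 0, 0, 0, 0, 0, 0, 0, 0, 0, 0, 0, 0]),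
    (30, [2, 4, 2, 4, 0, 4, 2, 0, 0, 2, 0, 0, 4, 2, 2, 0, 4, 0, 2, 4, 4, 4, 0, 2]),
    (30, [2, 4, 2, 4, 0, 4, 2, 0, 0, 2, 0, 0, 4, 2, 2, 0, 4, 0, 2, 4, 4, 4, 0, 2]),
    (30, [2, 4, 2, 4, 0, 4, 2, 0, 0, 2, 0, 0, 4, 2, 2, 0, 4, 0, 2, 4, 4, 4, 0, 2]),
    (29, [2, 2, 2, 2, 2, 2, 2, -2, 2, 2, 2, 2, 2, 2, -2, 2, 2, 2, 2, 2, 2, 2, 2, 2]),
    (6, [6, 0, 6, 0, 0, 4, 6, 0, 0, 6, 0, 0, 0, 6, 2, 0, 0, 0, 6, 0, 0, 0, 0, 6]),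
    (4, [4, 2, 4, 2, 2, 2, 4, -2, 2, 4, 2, 2, 2, 4, 8, 2, 2, 2, 4, 2, 2, 2, 2, 4]),
    (26, [4, 6, 4, 6, 2, 2, 4, 2, 2, 4, 2, 2, 6, 4, 8, 2, 6, 2, 4, 6, 6, 6, 2, 4]),
    (3, [6, 2, 6, 2, 2, 2, 6, 2, 2, 6, 2, 2, 2, 6, -2, 2, 2, 2, 6, 2, 2, 2, 2, 6]),
    (29, [6, 6, 6, 6, 2, 2, 6, -2, 2, 6, 2, 2, 6, 6, -2, 2, 6, 2, 6, 6, 6, 6, 2, 6]),
    (29, [6, 6, 6, 6, 2, 2, 6, -2, 2, 6, 2, 2, 6, 6, -2, 2, 6, 2, 6, 6, 6, 6, 2, 6]),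
    (10, [5, 3, 5, 3, 1, 9, 5, 3, 1, 5, 1, 1, 3, 5, 9, 1, 3, 1, 5, 3, 3, 3, 1, 5]),
    (4, [4, 2, 4, 2, 2, 2, 4, -2, 2, 4, 2, 2, 2, 4, 8, 2, 2, 2, 4, 2, 2, 2, 2, 4]),
    (21, [4, 4, 4, 4, 2, 2, 4, 4, 2, 4, 2, 2, 4, 4, 4, 2, 4, 2, 4, 4, 4, 4, 2, 4]),
    (29, [6, 6, 6, 6, 2, 2, 6, -2, 2, 6, 2, 2, 6, 6, -2, 2, 6, 2, 6, 6, 6, 6, 2, 6]),
    (26, [4, 6, 4, 6, 2, 2, 4, 2, 2, 4, 2, 2, 6, 4, 8, 2, 6, 2, 4, 6, 6, 6, 2, 4]),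
    (26, [4, 6, 4, 6, 2, 2, 4, 2, 2, 4, 2, 2, 6, 4, 8, 2, 6, 2, 4, 6, 6, 6, 2, 4]),
    (30, [6, 4, 6, 4, 4, 4, 6, 0, 4, 6, 4, 4, 4, 6, 2, 4, 4, 4, 6, 4, 4, 4, 4, 6]),
    (35, [4, 4, 4, 4, 4, 8, 4, 4, 4, 4, 4, 4, 4, 4, 0, 4, 4, 4, 4, 4, 4, 4, 4, 4])]

/-- a normalising automorphism -/
def g3E : List (List ℤ) :=
  [[-2, -2, 2, 2, 0, 0, -2, 2, 0, -2, 0, 0, 2, -2, 2, 0, -2, 0, 2, -2, -2, 2, 0, 2],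
    [0, 0, 0, 0, -2, -2, 0, 0, -2, 0, -2, -2, 0, 0, 0, -2, 0, 6, 0, 0, 0, 0, -2, 0],
    [2, -2, -2, -2, 0, 0, 2, 2, 0, -2, 0, 0, -2, -2, 2, 0, 2, 0, 2, -2, 2, 2, 0, -2],
    [0, 0, 0, 0, -2, -2, 0, 0, 6, 0, -2, -2, 0, 0, 0, -2, 0, -2, 0, 0, 0, 0, -2, 0],
    [2, 2, -2, 2, 0, 0, -2, 2, 0, 2, 0, 0, -2, -2, -2, 0, 2, 0, 2, -2, -2, -2, 0, 2],
    [-2, 2, -2, 2, 0, 0, -2, 2, 0, -2, 0, 0, 2, -2, -2, 0, 2, 0, -2, 2, 2, 2, 0, -2],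
    [2, -2, 2, 2, 0, 0, -2, 2, 0, 2, 0, 0, -2, -2, 2, 0, -2, 0, -2, 2, 2, -2, 0, -2],
    [0, 0, 0, 0, -2, 6, 0, 0, -2, 0, -2, -2, 0, 0, 0, -2, 0, -2, 0, 0, 0, 0, -2, 0],
    [-2, -2, 2, -2, 0, 0, -2, 2, 0, 2, 0, 0, -2, 2, -2, 0, 2, 0, -2, -2, 2, 2, 0, 2],
    [-2, 2, -2, -2, 0, 0, -2, 2, 0, 2, 0, 0, -2, 2, 2, 0, -2, 0, 2, 2, -2, 2, 0, -2],
    [-2, 2, 2, -2, 0, 0, 2, 2, 0, 2, 0, 0, 2, -2, -2, 0, -2, 0, 2, -2, 2, -2, 0, -2],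
    [2, 2, 2, -2, 0, 0, 2, 2, 0, -2, 0, 0, -2, -2, -2, 0, -2, 0, -2, 2, -2, 2, 0, 2],
    [0, 0, 0, 0, 6, -2, 0, 0, -2, 0, -2, -2, 0, 0, 0, -2, 0, -2, 0, 0, 0, 0, -2, 0],
    [2, 2, -2, -2, 0, 0, -2, 2, 0, -2, 0, 0, 2, 2, 2, 0, -2, 0, -2, -2, 2, -2, 0, 2],
    [2, 2, 2, 2, 0, 0, 2, 2, 0, 2, 0, 0, 2, 2, 2, 0, 2, 0, 2, 2, 2, 2, 0, 2],
    [2, -2, -2, 2, 0, 0, 2, 2, 0, 2, 0, 0, 2, 2, -2, 0, -2, 0, -2, -2, -2, 2, 0, -2],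
    [0, 0, 0, 0, -2, -2, 0, 0, -2, 0, -2, -2, 0, 0, 0, -2, 0, -2, 0, 0, 0, 0, 6, 0],
    [-2, -2, -2, 2, 0, 0, 2, 2, 0, -2, 0, 0, -2, 2, -2, 0, -2, 0, 2, 2, 2, -2, 0, 2],
    [-2, 2, 2, 2, 0, 0, 2, 2, 0, -2, 0, 0, -2, 2, 2, 0, 2, 0, -2, -2, -2, -2, 0, -2],
    [0, 0, 0, 0, -2, -2, 0, 0, -2, 0, -2, -2, 0, 0, 0, 6, 0, -2, 0, 0, 0, 0, -2, 0],
    [0, 0, 0, 0, -2, -2, 0, 0, -2, 0, 6, -2, 0, 0, 0, -2, 0, -2, 0, 0, 0, 0, -2, 0],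
    [0, 0, 0, 0, -2, -2, 0, 0, -2, 0, -2, 6, 0, 0, 0, -2, 0, -2, 0, 0, 0, 0, -2, 0],
    [2, -2, 2, -2, 0, 0, -2, 2, 0, -2, 0, 0, 2, 2, -2, 0, 2, 0, 2, 2, -2, -2, 0, -2],
    [-2, -2, -2, -2, 0, 0, 2, 2, 0, 2, 0, 0, 2, -2, 2, 0, 2, 0, -2, 2, -2, -2, 0, 2]]

/-- an inverting involution -/
def xE : List (List ℤ) :=
  [[1, 1, -3, 1, -1, -1, -3, 1, -1, 1, -1, -1, 1, 1, 1, 3, 1, -1, 1, 1, -3, 1, -1, -3],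
    [1, 1, 1, 1, 3, -1, -3, 1, 3, 1, -1, 3, 1, 1, 1, -1, -3, -1, 1, 1, 1, 1, -1, 1],
    [-3, 1, -3, 1, 3, -1, 1, 1, -1, 1, -1, -1, 1, -3, 1, -1, 1, -1, 1, 1, 1, -3, -1, 1],
    [1, 1, 1, 1, -1, -1, 1, 1, 3, 1, 3, -1, 1, 1, 1, 3, 1, -1, -3, 1, 1, -3, -1, 1],
    [-1, 3, 3, -1, 1, 1, -1, -1, -3, -1, 1, 1, 3, -1, -1, 1, -1, 1, -1, 3, -1, -1, 1, -1],
    [-1, -1, -1, -1, 1, -3, -1, -5, 1, -1, 1, 1, -1, -1, 3, 1, -1, 1, -1, -1, -1, -1, 1, -1],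
    [-3, -3, 1, 1, -1, -1, -3, 1, -1, -3, 3, -1, 1, 1, 1, -1, 1, -1, 1, 1, 1, 1, -1, 1],
    [1, 1, 1, 1, -1, -5, 1, -3, -1, 1, -1, -1, 1, 1, -3, -1, 1, -1, 1, 1, 1, 1, -1, 1],
    [-1, 3, -1, 3, -3, 1, -1, -1, 1, -1, 1, 1, -1, -1, -1, 1, -1, 1, 3, -1, 3, -1, 1, -1],
    [1, 1, 1, 1, -1, -1, -3, 1, -1, 1, -1, -1, -3, -3, 1, -1, 1, -1, -3, 1, 1, 1, 3, 1],
    [-1, -1, -1, 3, 1, 1, 3, -1, 1, -1, 1, 1, -1, -1, -1, 1, -1, -3, -1, 3, -1, 3, 1, -1],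
    [-1, 3, -1, -1, 1, 1, -1, -1, 1, -1, 1, 1, -1, -1, -1, 1, 3, 1, -1, -1, -1, 3, -3, 3],
    [1, 1, 1, 1, 3, -1, 1, 1, -1, -3, -1, -1, 1, 1, 1, 3, 1, -1, 1, -3, 1, 1, 3, 1],
    [1, 1, -3, 1, -1, -1, 1, 1, -1, -3, -1, -1, 1, 1, 1, -1, -3, 3, -3, 1, 1, 1, -1, 1],
    [1, 1, 1, 1, -1, 3, 1, -3, -1, 1, -1, -1, 1, 1, 5, -1, 1, -1, 1, 1, 1, 1, -1, 1],
    [3, -1, -1, 3, 1, 1, -1, -1, 1, -1, 1, 1, 3, -1, -1, -3, 3, 1, -1, -1, -1, -1, 1, -1],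
    [1, -3, 1, 1, -1, -1, 1, 1, -1, 1, -1, 3, 1, -3, 1, 3, 1, 3, 1, 1, 1, 1, -1, 1],
    [-1, -1, -1, -1, 1, 1, -1, -1, 1, -1, -3, 1, -1, 3, -1, 1, 3, 1, -1, 3, 3, -1, 1, -1],
    [1, 1, 1, -3, -1, -1, 1, 1, 3, -3, -1, -1, 1, -3, 1, -1, 1, -1, 1, 1, 1, 1, -1, -3],
    [1, 1, 1, 1, 3, -1, 1, 1, -1, 1, 3, -1, -3, 1, 1, -1, 1, 3, 1, 1, 1, 1, -1, -3],
    [-3, 1, 1, 1, -1, -1, 1, 1, 3, 1, -1, -1, 1, 1, 1, -1, 1, 3, 1, 1, -3, 1, 3, 1],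
    [1, 1, -3, -3, -1, -1, 1, 1, -1, 1, 3, 3, 1, 1, 1, -1, 1, -1, 1, 1, 1, 1, 3, 1],
    [-1, -1, -1, -1, 1, 1, -1, -1, 1, 3, 1, -3, 3, -1, -1, 1, -1, 1, -1, -1, 3, 3, 1, -1],
    [-3, 1, 1, 1, -1, -1, 1, 1, -1, 1, -1, 3, 1, 1, 1, -1, 1, -1, -3, -3, 1, 1, -1, -3]]

/-- carrying sign changes to the involution -/
def hE : List (List ℤ) :=
  [[-1, -1, 1, 1, 1, -1, 1, -3, 1, 1, 1, 1, 1, 1, -1, -5, 1, 1, 1, -1, -1, 3, 1, 1],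
    [-1, -1, -3, 1, 1, -1, 1, 1, 1, 1, 1, -3, 1, 1, 3, -1, -3, 1, 1, 3, -1, -1, 1, 1],
    [1, -3, -1, -1, -1, 1, -1, -1, 3, -1, -1, -1, -1, -1, 1, 1, -1, 3, -1, -3, 1, 1, 3, -1],
    [-1, -1, -3, 1, 1, -1, -3, 1, 1, 1, 1, 1, 1, -3, -1, -1, 1, -3, -3, -1, -1, -1, 1, 1],
    [1, 1, -1, -1, -1, -3, -1, -1, 3, -1, 3, -1, -1, -1, -3, 1, -1, -1, 3, 1, 1, 1, -1, -1],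
    [-1, -1, 1, 1, 1, -1, 1, -3, 1, 1, 1, 1, 1, 1, -1, 3, 1, 1, 1, -1, -1, -5, 1, 1],
    [1, 1, -1, -1, 3, -3, -1, -1, -1, -1, -1, -1, -1, -1, 1, 1, 3, 3, -1, 1, -3, 1, -1, -1],
    [1, 1, -1, -1, -1, 1, -1, -5, -1, -1, -1, -1, -1, -1, 1, -3, -1, -1, -1, 1, 1, -3, -1, -1],
    [-3, 1, -1, -1, -1, 1, -1, -1, -1, 3, -1, -1, -1, -1, -3, 1, -1, 3, -1, 1, 1, 1, -1, 3],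
    [-1, -1, 1, 1, 1, -1, 1, 1, 1, -3, 1, 1, -3, 1, -1, -1, -3, 1, -3, -1, -1, -1, -3, 1],
    [-3, -3, -1, -1, -1, 1, -1, -1, -1, -1, 3, -1, -1, 3, 1, 1, 3, -1, -1, 1, 1, 1, -1, -1],
    [-3, 1, -1, 3, 3, 1, -1, -1, -1, -1, -1, -1, -1, -1, 1, 1, -1, -1, 3, -3, 1, 1, -1, -1],
    [3, -1, 1, 1, 1, 3, -3, 1, 1, 1, 1, -3, 1, 1, -1, -1, 1, 1, 1, -1, -1, -1, -3, 1],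
    [3, -1, -3, 1, 1, -1, 1, 1, -3, 1, 1, 1, -3, 1, -1, -1, 1, 1, 1, -1, 3, -1, 1, 1],
    [1, 1, -1, 3, -1, 1, 3, -1, 3, -1, -1, -1, -1, -1, 1, 1, 3, -1, -1, 1, 1, 1, -1, 3],
    [-1, 3, 1, 1, -3, -1, -3, 1, 1, 1, 1, 1, -3, 1, 3, -1, 1, 1, 1, -1, -1, -1, 1, 1],
    [-1, -1, 1, 1, 1, -1, -3, 1, 1, -3, -3, 1, 1, 1, -1, -1, 1, 1, 1, 3, 3, -1, 1, 1],
    [1, -3, -1, -1, -1, 1, -1, -1, -1, -1, -1, 3, -1, -1, 1, 1, -1, -1, 3, 1, -3, 1, -1, 3],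
    [-1, -1, 1, -3, 1, -1, 1, 1, 1, 1, -3, -3, -3, 1, -1, -1, 1, -3, 1, -1, -1, -1, 1, 1],
    [-1, 3, -3, -3, 1, 3, 1, 1, 1, -3, 1, 1, 1, 1, -1, -1, 1, 1, 1, -1, -1, -1, 1, 1],
    [1, 1, -1, -1, -1, -3, -1, -1, -1, -1, -1, -1, 3, 3, 1, 1, -1, -1, -1, -3, 1, 1, -1, 3],
    [-1, -1, 1, 1, -3, -1, 1, 1, -3, -3, 1, -3, 1, -3, -1, -1, 1, 1, 1, -1, -1, -1, 1, 1],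
    [1, 1, 3, -1, 3, 1, -1, -1, -1, -1, 3, -1, -1, -1, 1, 1, -1, -1, -1, 1, 1, 1, 3, 3],
    [1, 1, -1, 3, -1, 1, -1, -1, -1, -1, -1, -1, -1, 3, -3, 1, -1, -1, -1, 1, -3, 1, 3, -1]]

/-- the sign changes -/
def cMask : ℕ := 8024242

end H84.Mon.Seven
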