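import Cfsg.Agent.H84.Monster.Seven
import Cfsg.Agent.H84.Monster.Local
import Cfsg.Agent.H84.Monster.Frame
import Cfsg.Agent.H84.Monster.Layer

/-!
The element of order seven in the centraliser of a pair: its automiser and an inverting involution
acting by an outer automorphism on the layer of its centraliser.
-/

set_option autoImplicit false
set_option maxRecDepth 4000

namespace H84.Mon

open Cfsg H95 H56M

variable {G : Type*} [Group G] [Finite G] {z s : G} {Q : Subgroup (CZ z)} [Q.Normal]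

/-- sign changes lift to involutions -/
theorem exists_sign_involution (D : Data z Q) (hrep : D.Rep s (eight none)) (hsz : s ≠ z)
    (hsc : IsConj z s) {c : Finset GolayPt}
    (hc : c ∈ supports (golayCode : Set (GolayPt → ZMod 2)))
    (hne : mono 1 c (one_mem _) hc ≠ 1 ∧ mono 1 c (one_mem _) hc ≠ negOne) :
    ∃ r : G, r * r = 1 ∧ r ≠ 1 ∧ D.Lift r (mono 1 c (one_mem _) hc) := by
  classical
  obtain ⟨g, hg⟩ := isConj_iff.mp hsc
  obtain ⟨hcard, hsigns⟩ := D.inter_facts hg hrep hsz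
  obtain ⟨r, hr, hl⟩ := hsigns c hc
  have hrQ : r ∉ QG Q := fun h => by
    rcases (D.lift_one_iff.mpr h).unique hl with e | e
    · exact hne.1 e
    · exact hne.2 (e.trans (one_mul _))
  rcases D.R_sq_cases hg hr with h1 | h1
  · exact ⟨r, h1, fun e => hrQ (e ▸ one_mem _), hl⟩
  by_cases hall : ∀ a ∈ QG Q ⊓ RG Q g, a * r = r * a
  · exfalso
    set S : Set G := ((QG Q ⊓ RG Q g : Subgroup G) : Set G) ∪ {r} with hS
    set A : Subgroup G := Subgroup.closure S
    have hAR : A ≤ RG Q g := by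
      rw [Subgroup.closure_le]
      rintro x (hx | hx)
      · exact hx.2
      · rw [Set.mem_singleton_iff] at hx; exact hx ▸ hr
    have hSS : ∀ a ∈ S, ∀ b ∈ S, a * b = b * a := by
      rintro a (ha | ha) b (hb | hb)
      · exact (D.inter_elem hg ha.1 ha.2 hb.1 hb.2 hsz).1
      · rw [Set.mem_singleton_iff] at hb; subst hb; exact hall a ha
      · rw [Set.mem_singleton_iff] at ha; subst ha; exact (hall b hb).symm
      · rw [Set.mem_singleton_iff] at ha hb; rw [ha, hb]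
    have h2 : A ≤ Subgroup.centralizer S := by
      rw [Subgroup.closure_le]
      exact fun a ha => Subgroup.mem_centralizer_iff.mpr fun b hb => hSS b hb a ha
    have h3 : A ≤ Subgroup.centralizer (A : Set G) := by
      rw [Subgroup.closure_le]
      intro a ha
      refine Subgroup.mem_centralizer_iff.mpr fun b hb => ?_
      exact ((Subgroup.mem_centralizer_iff.mp (h2 hb)) a ha).symm
    have hle : QG Q ⊓ RG Q g ≤ A := fun a ha => Subgroup.subset_closure (Or.inl ha)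
    have h4 := D.card_abelian_le hg A hAR fun a ha b hb => Subgroup.mem_centralizer_iff.mp (h3 hb) a ha
    have h5 := Subgroup.eq_of_le_of_card_ge hle (by omega)
    exact hrQ (h5 ▸ Subgroup.subset_closure (Or.inr rfl) : r ∈ QG Q ⊓ RG Q g).1
  push Not at hall
  obtain ⟨a, ha, hne'⟩ := hall
  have haa := (D.inter_elem hg ha.1 ha.2 ha.1 ha.2 hsz).2
  have hconj : a * r * a⁻¹ = s * r := by
    rcases D.R_comm_cases hg ha.2 hr with e | e
    · exact absurd (mul_inv_eq_iff_eq_mul.mp (mul_inv_eq_one.mp e)) hne'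
    · exact mul_inv_eq_iff_eq_mul.mp e
  refine ⟨r * a, ?_, fun e => hrQ (eq_inv_of_mul_eq_one_left e ▸ inv_mem ha.1), ?_⟩
  · calc r * a * (r * a) = r * (a * r * a⁻¹) * (a * a) := by group
      _ = r * s * r := by rw [hconj, haa]; group
      _ = s * (r * r) := by rw [D.R_comm_t hg hr]; group
      _ = 1 := by rw [h1, D.t_sq hg]
  · have := hl.mul (D.lift_one_iff.mpr ha.1)
    rwa [mul_one] at this

namespace Seven

theorem cfg_prime : Nat.Prime cfg.p := by decide

theorem cfg_odd : Odd cfg.p := ⟨3, rfl⟩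

theorem fact244 : (244823040 : ℕ).factorization 7 = 1 := by
  rw [show (244823040 : ℕ) = 7 * 34974720 by norm_num,
    Nat.factorization_mul (by norm_num) (by norm_num), Finsupp.add_apply,
    Nat.Prime.factorization_self (by norm_num), Nat.factorization_eq_zero_of_not_dvd (by norm_num)]

theorem perm_order : orderOf (⟨cfg.perm cfg_ok, cfg.perm_mem cfg_ok⟩ : M24) = 7 := by
  haveI : Fact (Nat.Prime 7) := ⟨by norm_num⟩
  refine orderOf_eq_prime (Subtype.ext (cfg.perm_pow cfg_ok)) fun h => ?_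
  have h1 : cfg.perm cfg_ok = 1 := congrArg Subtype.val h
  have h2 := (cfg.perm_repr cfg_ok).apply (H90.pt 0)
  rw [h1] at h2
  simp only [Equiv.Perm.one_apply, H90.idx_pt] at h2
  exact absurd h2 (by decide)

theorem aut_ne : cfg.aut cfg_ok ≠ 1 := by
  intro h
  have h2 : cfg.aut cfg_ok • eight (H90.pt 0) = eight (H90.pt 0) := by rw [h, one_smul]
  rw [cfg.aut_eight cfg_ok] at h2
  have h3 := congrArg H90.idx (eight_injective h2)
  rw [H90.idx_pt, H90.idx_pt] at h3
  exact absurd h3 (by decide)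

/-- `⟨y⟩` is a Sylow subgroup in standard position -/
theorem setup (hM : IsOfMonsterType z Q) (hs : s ∈ QG Q) (hsc : IsConj z s) (hsz : s ≠ z)
    {B : Subgroup G} (hB : B ≤ LL z s) (hBp : Nat.card B = 7 ^ (Nat.card (LL z s)).factorization 7) :
    ∃ (D : Data z Q) (y : G), D.Rep s (eight none) ∧ D.Lift y (cfg.aut cfg_ok) ∧ y ^ 7 = 1 ∧
      orderOf y = 7 ∧ B = Subgroup.zpowers y := by
  haveI : Fact (Nat.Prime 7) := ⟨by norm_num⟩
  obtain ⟨D₀⟩ := nonempty_data hM
  obtain ⟨D₁, hD₁⟩ := D₀.exists_twist64 hs hsc hsz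
  obtain ⟨D, hrep, -, hsur⟩ := normal_form D₁ hD₁ hsz hsc (p := 7) (by norm_num) hB hBp
    (Subgroup.zpowers (⟨cfg.perm cfg_ok, cfg.perm_mem cfg_ok⟩ : M24))
    (by rw [Nat.card_zpowers, perm_order, fact244, pow_one])
  obtain ⟨y, hy, hl⟩ := hsur _ (Subgroup.mem_zpowers _)
  have hcard : Nat.card B = 7 := by
    rw [hBp, card_LL_factorization D hrep hsz hsc (by norm_num) (by norm_num), fact244, pow_one]
  have hy7 : y ^ 7 = 1 := by
    have := congrArg Subtype.val (pow_card_eq_one' (x := (⟨y, hy⟩ : B)))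
    rwa [hcard] at this
  have hl' : D.Lift y (cfg.aut cfg_ok) := hl
  have hord : orderOf y = 7 := orderOf_eq_prime hy7 (y_ne_one D cfg cfg_ok cfg_odd hl' hy7 aut_ne)
  refine ⟨D, y, hrep, hl', hy7, hord, ?_⟩
  symm
  exact Subgroup.eq_of_le_of_card_ge (Subgroup.zpowers_le.mpr hy)
    (by rw [Nat.card_zpowers, hord, hcard])

section Main

variable (D : Data z Q) {y : G} (hy : D.Lift y (cfg.aut cfg_ok)) (hy7 : y ^ 7 = 1)
  (hord : orderOf y = 7)

include hy hy7

theorem exists_normaliser (k : ℕ) (hk : k % 7 ≠ 0) : ∃ c ∈ CZ z, c * y * c⁻¹ = y ^ k := by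
  obtain ⟨h, hl, hh⟩ := exists_lift_conj D cfg cfg_ok cfg_odd hy hy7
    (cfg.conj_of_ok cfg_ok g3_ok.1 g3_ok.2)
  have hit : ∀ n : ℕ, h ^ n * y * (h ^ n)⁻¹ = y ^ (3 ^ n) := by
    intro n
    induction n with
    | zero => simp
    | succ n ih =>
      rw [pow_succ', show h * h ^ n * y * (h * h ^ n)⁻¹ = h * (h ^ n * y * (h ^ n)⁻¹) * h⁻¹ by group,
        ih, ← conj_pow, hh, ← pow_mul, ← pow_succ']
  obtain ⟨n, hn⟩ : ∃ n, 3 ^ n % 7 = k % 7 := by
    have hlt : k % 7 < 7 := Nat.mod_lt _ (by norm_num)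
    have : ∀ m < 7, m ≠ 0 → ∃ n : Fin 6, 3 ^ (n : ℕ) % 7 = m := by decide
    obtain ⟨n, hn⟩ := this _ hlt hk
    exact ⟨n, hn⟩
  refine ⟨h ^ n, pow_mem hl.1 n, ?_⟩
  rw [hit, pow_eq_pow_mod _ hy7, hn, ← pow_eq_pow_mod _ hy7]

include hord

theorem relIndex_eq : (Subgroup.centralizer (Subgroup.zpowers y : Set G)).relIndex
    (Subgroup.normalizer (Subgroup.zpowers y : Set G)) = 6 := by
  classical
  haveI : Fact (Nat.Prime 7) := ⟨by norm_num⟩
  set B := Subgroup.zpowers y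
  have hker := Subgroup.normalizerMonoidHom_ker B
  rw [Subgroup.relIndex, ← hker, Subgroup.index_ker]
  have hcard : Nat.card B = 7 := by rw [Nat.card_zpowers, hord]
  have hcyc : IsCyclic B := isCyclic_of_prime_card hcard
  have htop : (B.normalizerMonoidHom).range = ⊤ := by
    rw [eq_top_iff]
    intro α _
    have hgen : ∀ b : B, ∃ m : ℕ, (b : G) = y ^ m := fun b => by
      obtain ⟨m, hm⟩ := (mem_powers_iff_mem_zpowers (x := y)).mpr b.2
      exact ⟨m, hm.symm⟩
    obtain ⟨k, hk⟩ := hgen (α ⟨y, Subgroup.mem_zpowers y⟩)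
    have hk0 : k % 7 ≠ 0 := fun h0 => by
      have h1 : α ⟨y, Subgroup.mem_zpowers y⟩ = 1 := Subtype.ext (by
        rw [hk, pow_eq_pow_mod _ hy7, h0, pow_zero]; rfl)
      rw [MulEquiv.map_eq_one_iff] at h1
      have h2 : y = 1 := congrArg Subtype.val h1
      rw [h2, orderOf_one] at hord
      omega
    obtain ⟨c, -, hc⟩ := exists_normaliser D hy hy7 k hk0
    have hcn : c ∈ Subgroup.normalizer (B : Set G) := by
      refine Cfsg.Comp.mem_normalizer_of_map_conj_eq ?_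
      rw [MonoidHom.map_zpowers]
      refine Subgroup.eq_of_le_of_card_ge (Subgroup.zpowers_le.mpr ?_) ?_
      · show c * y * c⁻¹ ∈ B
        rw [hc]; exact pow_mem (Subgroup.mem_zpowers y) k
      · rw [hcard, Nat.card_zpowers, show orderOf ((MulAut.conj c).toMonoidHom y) = orderOf y from
          orderOf_injective _ (MulAut.conj c).injective y, hord]
    refine ⟨⟨c, hcn⟩, ?_⟩
    ext b
    obtain ⟨m, hm⟩ := hgen b
    have hb : b = (⟨y, Subgroup.mem_zpowers y⟩ : B) ^ m := Subtype.ext (by simpa using hm)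
    show c * (b : G) * c⁻¹ = (α b : G)
    rw [hb, map_pow, SubgroupClass.coe_pow, SubgroupClass.coe_pow, hk, ← conj_pow, hc]
  rw [htop, Subgroup.card_top, IsCyclic.card_mulAut, hcard]
  decide

omit hord in
/-- an involution inverting `y` -/
theorem exists_inverting (hrep : D.Rep s (eight none)) (hsz : s ≠ z) (hsc : IsConj z s) :
    ∃ t : G, orderOf t = 2 ∧ t * y * t⁻¹ = y ^ 6 := by
  obtain ⟨hc, hx⟩ := sign_of_ok x_ok.1 sign_ok.1 sign_ok.2
  have hne : mono 1 (H90.setOf' cMask) (one_mem _) hc ≠ 1 ∧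
      mono 1 (H90.setOf' cMask) (one_mem _) hc ≠ negOne := by
    obtain ⟨a, b, ha, hb⟩ := mask_ok
    constructor <;> intro e
    · have h1 := congrArg (fun g : Co0 => ((g • eight (H90.pt a) : leechLattice) : GolayPt → ℤ) (H90.pt a)) e
      simp [mono_smul, signedPerm, eight, H90.mem_setOf', H90.idx_pt, ha,
        show (1 : Equiv.Perm GolayPt).symm (H90.pt a) = H90.pt a from rfl] at h1
    · have h1 := congrArg (fun g : Co0 => ((g • eight (H90.pt b) : leechLattice) : GolayPt → ℤ) (H90.pt b)) e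
      simp [mono_smul, negOne_smul, signedPerm, eight, H90.mem_setOf', H90.idx_pt, hb,
        show (1 : Equiv.Perm GolayPt).symm (H90.pt b) = H90.pt b from rfl] at h1
  obtain ⟨r, hr2, hr1, hrl⟩ := exists_sign_involution D hrep hsz hsc hc hne
  obtain ⟨h, hl⟩ := D.exists_lift (mkMat hE sign_ok.1).elt
  set x := h * r * h⁻¹ with hxdef
  have hxl : D.Lift x (mkMat xE x_ok.1).elt := hx ▸ (hl.mul hrl).mul hl.inv
  have hxx : x * x = 1 := by
    rw [hxdef, show h * r * h⁻¹ * (h * r * h⁻¹) = h * (r * r) * h⁻¹ by group, hr2]; group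
  have hxi : x⁻¹ = x := inv_eq_of_mul_eq_one_right hxx
  set pr := x * y * x⁻¹ * y⁻¹ with hprdef
  have hconj := cfg.conj_of_ok cfg_ok x_ok.1 x_ok.2
  have hprl : D.Lift pr (cfg.aut cfg_ok ^ 5) := by
    have := ((hxl.mul hy).mul hxl.inv).mul hy.inv
    rwa [hconj, show cfg.aut cfg_ok ^ 6 * (cfg.aut cfg_ok)⁻¹ = cfg.aut cfg_ok ^ 5 by group] at this
  have hxpr : x * pr * x⁻¹ = pr⁻¹ := by
    rw [hprdef]
    calc x * (x * y * x⁻¹ * y⁻¹) * x⁻¹ = (x * x) * y * x⁻¹ * y⁻¹ * x⁻¹ := by group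
      _ = y * x * y⁻¹ * x⁻¹ := by rw [hxx, hxi, one_mul]
      _ = (x * y * x⁻¹ * y⁻¹)⁻¹ := by group
  have haut7 : cfg.aut cfg_ok ^ 7 = 1 := cfg.aut_pow cfg_ok
  have h28 : pr ^ 28 = 1 := by
    have hQ : pr ^ 7 ∈ QG Q := by
      have := lift_pow D hprl 7
      rw [← pow_mul, show 5 * 7 = 7 * 5 by norm_num, pow_mul, haut7, one_pow] at this
      exact D.lift_one_iff.mp this
    rw [show 28 = 7 * (2 * 2) by norm_num, pow_mul, pow_mul, sq, sq]
    rcases D.sq_cases hQ with e | e <;> rw [e]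
    · exact one_mul 1
    · exact D.z_sq
  have hπl : D.Lift (pr ^ 4) (cfg.aut cfg_ok ^ 6) := by
    have := lift_pow D hprl 4
    rwa [← pow_mul, pow_eq_pow_mod _ haut7] at this
  have hmod : pr ^ 4 * (y ^ 6)⁻¹ ∈ QG Q := by
    have := hπl.mul (lift_pow D hy 6).inv
    rw [mul_inv_cancel] at this
    exact D.lift_one_iff.mp this
  obtain ⟨q, hq, hqe⟩ := exists_conj_eq D hπl.1 (pow_mem hy.1 6) cfg_odd
    (by rw [← pow_mul]; exact h28)
    (by rw [← pow_mul, show 6 * cfg.p = 7 * 6 by rfl, pow_mul, hy7, one_pow]) hmod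
  refine ⟨q * x * q⁻¹, ?_, ?_⟩
  · haveI : Fact (Nat.Prime 2) := ⟨Nat.prime_two⟩
    refine orderOf_eq_prime ?_ fun e => hr1 ?_
    · rw [sq, show q * x * q⁻¹ * (q * x * q⁻¹) = q * (x * x) * q⁻¹ by group, hxx]; group
    · rw [mul_inv_eq_one, mul_eq_left] at e
      rw [hxdef, mul_inv_eq_one, mul_eq_left] at e
      exact e
  · have h1 : (q * x * q⁻¹) * y ^ 6 * (q * x * q⁻¹)⁻¹ = (y ^ 6)⁻¹ := by
      rw [← hqe, show q * x * q⁻¹ * (q * pr ^ 4 * q⁻¹) * (q * x * q⁻¹)⁻¹
        = q * (x * pr ^ 4 * x⁻¹) * q⁻¹ by group, ← conj_pow, hxpr, inv_pow]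
      group
    have h2 : y = (y ^ 6) ^ 6 := by
      rw [← pow_mul, pow_eq_pow_mod _ hy7]; simp
    have h3 : (y ^ 6)⁻¹ = y := inv_eq_of_mul_eq_one_right (by rw [← pow_succ, hy7])
    rw [h3] at h1
    calc q * x * q⁻¹ * y * (q * x * q⁻¹)⁻¹
        = ((q * x * q⁻¹) * y ^ 6 * (q * x * q⁻¹)⁻¹) ^ 6 := by rw [conj_pow, ← h2]
      _ = y ^ 6 := by rw [h1]

omit hy7 in
/-- fusion of conjugates of `z` in `C_Q(y)` inside the centraliser of `y` -/
theorem fusion (hM : IsOfMonsterType z Q) {x : G} (hx : x ∈ QG Q) (hxy : x * y = y * x)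
    (hc : IsConj z x) (hxz : x ≠ z) : ∃ a : G, a * y = y * a ∧ a * z * a⁻¹ = x := by
  haveI : Fact (Nat.Prime 7) := ⟨by norm_num⟩
  have hy7 : y ^ 7 = 1 := hord ▸ pow_orderOf_eq_one y
  obtain ⟨w, hwz, hwx⟩ := exists_swap hM hx hc hxz
  obtain ⟨D', hD'⟩ := D.exists_twist64 hx hc hxz
  set L := LL z x
  have hyL : y ∈ L := mem_LL.mpr ⟨mem_CZ.mp hy.1, hxy.symm⟩
  have hwL : w * y * w⁻¹ ∈ L := by
    obtain ⟨h1, h2⟩ := mem_LL.mp hyL
    refine mem_LL.mpr ⟨?_, ?_⟩
    · rw [← hwx, show w * y * w⁻¹ * (w * x * w⁻¹) = w * (y * x) * w⁻¹ by group,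
        show w * x * w⁻¹ * (w * y * w⁻¹) = w * (x * y) * w⁻¹ by group, h2]
    · rw [← hwz, show w * y * w⁻¹ * (w * z * w⁻¹) = w * (y * z) * w⁻¹ by group,
        show w * z * w⁻¹ * (w * y * w⁻¹) = w * (z * y) * w⁻¹ by group, h1]
  have hv : (Nat.card L).factorization 7 = 1 := by
    rw [card_LL_factorization D' hD' hxz hc (by norm_num) (by norm_num), fact244]
  let P1 : Sylow 7 L := Sylow.ofCard (Subgroup.zpowers (⟨y, hyL⟩ : L))
    (by rw [Nat.card_zpowers, hv, pow_one, Subgroup.orderOf_mk, hord])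
  let P2 : Sylow 7 L := Sylow.ofCard (Subgroup.zpowers (⟨_, hwL⟩ : L))
    (by rw [Nat.card_zpowers, hv, pow_one, Subgroup.orderOf_mk,
      show orderOf (w * y * w⁻¹) = orderOf y from
        orderOf_injective (MulAut.conj w).toMonoidHom (MulAut.conj w).injective y, hord])
  obtain ⟨l, hl⟩ := MulAction.exists_smul_eq L P2 P1
  have h1 : (l : G) * (w * y * w⁻¹) * (l : G)⁻¹ ∈ Subgroup.zpowers y := by
    have h2 := congrArg Sylow.toSubgroup hl
    rw [Sylow.coe_subgroup_smul, Sylow.coe_ofCard, Sylow.coe_ofCard] at h2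
    have h3 : l * (⟨_, hwL⟩ : L) * l⁻¹ ∈ Subgroup.zpowers (⟨y, hyL⟩ : L) := h2 ▸ ⟨_, Subgroup.mem_zpowers _, rfl⟩
    obtain ⟨m, hm⟩ := h3
    exact ⟨m, by simpa using congrArg Subtype.val hm⟩
  obtain ⟨k, hk⟩ := (mem_powers_iff_mem_zpowers (x := y)).mpr h1
  have hk' : (l : G) * w * y * ((l : G) * w)⁻¹ = y ^ k := by
    rw [show y ^ k = _ from hk]; group
  have hk0 : k % 7 ≠ 0 := fun h0 => by
    rw [pow_eq_pow_mod _ hy7, h0, pow_zero, mul_inv_eq_one, mul_eq_left] at hk'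
    rw [hk', orderOf_one] at hord; omega
  refine fusion_centralizer (z := z) (x := x) ?_ hk' (exists_normaliser D hy hy7 k hk0)
  rw [show (l : G) * w * z * ((l : G) * w)⁻¹ = (l : G) * (w * z * w⁻¹) * (l : G)⁻¹ by group, hwz,
    (mem_LL.mp l.2).2, mul_inv_cancel_right]

/-- no inverting element centralises the layer of the centraliser -/
theorem outer (hM : IsOfMonsterType z Q) {u : G} (hu : u * y * u⁻¹ = y ^ 6)
    (hcomm : ∀ x ∈ (layer ↥(Subgroup.centralizer (Subgroup.zpowers y : Set G))).map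
      (Subgroup.centralizer (Subgroup.zpowers y : Set G)).subtype, u * x * u⁻¹ = x) : False := by
  set H := Subgroup.centralizer (Subgroup.zpowers y : Set G)
  have hmemH : ∀ {a : G}, a ∈ H ↔ a * y = y * a := fun {a} => by
    constructor
    · exact fun h => (Subgroup.mem_centralizer_iff.mp h y (Subgroup.mem_zpowers y)).symm
    · intro h
      rw [Subgroup.mem_centralizer_iff]
      rintro _ ⟨m, rfl⟩
      exact ((Commute.zpow_left (show Commute y a from h.symm) m)).eq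
  have hzH : z ∈ H := hmemH.mpr (mem_CZ.mp hy.1).symm
  -- the conjugates from the spanning vectors
  have hconj : ∀ {x : G} {v : leechLattice}, D.Rep x v → ldot v v = 64 →
      cls (cfg.aut cfg_ok • v) = cls v →
      ∃ hx : x ∈ H, IsConj (⟨z, hzH⟩ : H) ⟨x, hx⟩ := by
    intro x v hr hn hfix
    have hxy := (mem_fix_iff D cfg cfg_ok cfg_odd hy hy7 hr).mpr hfix
    refine ⟨hmemH.mpr hxy, ?_⟩
    by_cases hxz : x = z
    · subst hxz; exact IsConj.refl _
    obtain ⟨a, ha, hax⟩ := fusion D hy hord hM hr.mem hxy (D.conj_z_of_64 hr hn) hxz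
    exact isConj_iff.mpr ⟨⟨a, hmemH.mpr ha⟩, Subtype.ext hax⟩
  have hUvec : ∀ w ∈ U, ∃ v : leechLattice, (v : GolayPt → ℤ) = listVec w ∧ ldot v v = 64 ∧
      cls (cfg.aut cfg_ok • v) = cls v := by
    intro w hw
    obtain ⟨hm, hf⟩ := cfg.spanOK_facts cfg_ok span_ok w hw
    exact ⟨⟨_, hm⟩, rfl, norms w hw, by rw [hf]⟩
  have L : LargeData (⟨z, hzH⟩ : H) ((Subgroup.zpowers y).subgroupOf H) ((QG Q).subgroupOf H) := by
    have hyH : Subgroup.zpowers y ≤ H := Subgroup.zpowers_le.mpr (hmemH.mpr rfl)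
    refine
      { zsq := Subtype.ext D.z_sq
        oddB := ?_
        centB := ?_
        zR := D.z_mem
        Rz := fun r hr => Subtype.ext (mem_CZ.mp (coe_mem_CZ hr))
        norm := fun c hc r hr => QG_normal (mem_CZ.mpr (congrArg Subtype.val hc)) hr
        cent := ?_
        center := ?_
        comm := fun r hr w hw => (D.comm_cases hr hw).imp (fun e => Subtype.ext e) (fun e => Subtype.ext e)
        four := ?_
        noncomm := ?_ }
    · rw [Nat.card_congr (Subgroup.subgroupOfEquivOfLe hyH).toEquiv, Nat.card_zpowers, hord]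
      decide
    · intro b hb
      rw [Subgroup.mem_center_iff]
      intro a
      exact Subtype.ext ((Subgroup.mem_centralizer_iff.mp a.2) b hb).symm
    · intro c hc hall
      have hcz : (c : G) ∈ CZ z := mem_CZ.mpr (congrArg Subtype.val hc)
      obtain ⟨j, e | e⟩ := kernel_fix D cfg cfg_ok cfg_odd hy hy7 cand_one hcz (hmemH.mp c.2)
        (fun x hx hxy => congrArg Subtype.val (hall ⟨x, hmemH.mpr hxy⟩ hx))
      · left; exact Subgroup.mem_subgroupOf.mpr (e ▸ Subgroup.npow_mem_zpowers y j)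
      · right
        refine Subgroup.mem_subgroupOf.mpr ?_
        show z * (c : G) ∈ _
        rw [e, ← mul_assoc, D.z_sq, one_mul]
        exact Subgroup.npow_mem_zpowers y j
    · intro r hr hall
      exact (center_fix D cfg cfg_ok cfg_odd hy hy7 hr (hmemH.mp r.2)
        fun x hx hxy => congrArg Subtype.val (hall ⟨x, hmemH.mpr hxy⟩ hx)).imp
        (fun e => Subtype.ext e) (fun e => Subtype.ext e)
    · obtain ⟨a, ha, -⟩ := noncomm
      obtain ⟨v, -, hn, hf⟩ := hUvec a ha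
      obtain ⟨h1, h2⟩ := hconj (D.rep_elt v) hn hf
      have hr' : D.Rep (z * D.elt v) v := (D.rep_z.mul (D.rep_elt v)).congr (by rw [zero_add])
      obtain ⟨h3, h4⟩ := hconj hr' hn hf
      exact ⟨⟨D.elt v, h1⟩, (D.rep_elt v).mem, h2, h4⟩
    · obtain ⟨a, ha, b, hb, hab⟩ := noncomm
      obtain ⟨v, hva, hn, hf⟩ := hUvec a ha
      obtain ⟨v', hvb, hn', hf'⟩ := hUvec b hb
      obtain ⟨h1, h2⟩ := hconj (D.rep_elt v) hn hf
      obtain ⟨h3, h4⟩ := hconj (D.rep_elt v') hn' hf'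
      refine ⟨⟨_, h1⟩, ⟨_, h3⟩, h2, h4, fun e => ?_⟩
      have := ((D.rep_elt v).comm_iff (D.rep_elt v')).mp (congrArg Subtype.val e)
      rw [bf, show ldot v v' = dotInt (listVec a) (listVec b) by rw [← hva, ← hvb]; rfl,
        ZMod.intCast_zmod_eq_zero_iff_dvd] at this
      exact absurd (Int.emod_eq_zero_of_dvd this) (by rw [show ((2 : ℕ) : ℤ) = 2 from rfl]; omega)
  have hlay : ∀ {x : G} {v : leechLattice}, D.Rep x v → ldot v v = 64 →
      cls (cfg.aut cfg_ok • v) = cls v → u * x * u⁻¹ = x := by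
    intro x v hr hn hf
    obtain ⟨hx, hc⟩ := hconj hr hn hf
    exact hcomm x ⟨⟨x, hx⟩, L.mem_layer hc, rfl⟩
  have huz : u ∈ CZ z := mem_CZ.mpr (mul_inv_eq_iff_eq_mul.mp
    (hcomm z ⟨⟨z, hzH⟩, L.mem_layer (IsConj.refl _), rfl⟩))
  obtain ⟨g₀, hl⟩ := D.exists_lift_of_mem huz
  let P : AddSubgroup leechLattice :=
    { carrier := {v | cls (g₀ • v) = cls v}
      zero_mem' := by show cls _ = _; rw [co0_zero]
      add_mem' := fun {a b} ha hb => by
        show cls _ = _
        rw [co0_add, cls_add, cls_add, show cls (g₀ • a) = cls a from ha,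
          show cls (g₀ • b) = cls b from hb]
      neg_mem' := fun {a} ha => by show cls _ = _; rw [co0_neg, cls_neg, cls_neg]; exact ha }
  have h2 : twice leechLattice ≤ P := fun v hv => by
    have hd : ∀ w ∈ twice leechLattice, cls w = 0 := fun w hw => (cls_eq (w := 0)).mpr (by rwa [sub_zero])
    show cls _ = _
    rw [hd v hv, hd _ (smul_twice g₀ hv)]
  have hUP : ∀ w ∈ U, ∀ hw' : listVec w ∈ leechLattice, (⟨_, hw'⟩ : leechLattice) ∈ P := by
    intro w hw hw'
    obtain ⟨v, hv, hn, hf⟩ := hUvec w hw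
    have : (⟨_, hw'⟩ : leechLattice) = v := Subtype.ext hv.symm
    rw [this]
    have hr := D.rep_elt v
    have h1 := hr.conj hl
    rw [hlay hr hn hf] at h1
    exact h1.unique hr
  obtain ⟨hfalse, -⟩ := kernel_lift D cfg cfg_ok cfg_odd hy hy7 cand_six huz hu fun v hv g₁ hl₁ => by
    have hv' : cls (g₀ • v) = cls v := cfg.fixed_mem cfg_ok span_ok cfg_odd P h2 hUP hv
    rcases hl.unique hl₁ with e | e <;> rw [e]
    · exact hv'
    · rw [Data.cls_smul_negOne]; exact hv'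
  exact Bool.false_ne_true hfalse

omit hy hy7 hord in
theorem main (hM : IsOfMonsterType z Q) (hs : s ∈ QG Q) (hsc : IsConj z s) (hsz : s ≠ z)
    (B : Subgroup G) (hB : B ≤ LL z s) (hBp : Nat.card B = 7 ^ (Nat.card (LL z s)).factorization 7) :
    (Subgroup.centralizer (B : Set G)).relIndex (Subgroup.normalizer (B : Set G)) = 6 ∧
      ∃ t : G, orderOf t = 2 ∧ (∀ b ∈ B, t * b * t⁻¹ = b⁻¹) ∧
        (∀ x ∈ (layer ↥(Subgroup.centralizer (B : Set G))).map (Subgroup.centralizer (B : Set G)).subtype,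
          t * x * t⁻¹ ∈ (layer ↥(Subgroup.centralizer (B : Set G))).map
            (Subgroup.centralizer (B : Set G)).subtype) ∧
        ¬ ∃ l ∈ (layer ↥(Subgroup.centralizer (B : Set G))).map (Subgroup.centralizer (B : Set G)).subtype,
          ∀ x ∈ (layer ↥(Subgroup.centralizer (B : Set G))).map (Subgroup.centralizer (B : Set G)).subtype,
            t * x * t⁻¹ = l * x * l⁻¹ := by
  obtain ⟨D, y, hrep, hy, hy7, hord, rfl⟩ := setup hM hs hsc hsz hB hBp
  refine ⟨relIndex_eq D hy hy7 hord, ?_⟩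
  obtain ⟨t, ht2, hty⟩ := exists_inverting D hy hy7 hrep hsz hsc
  have hy6 : y ^ 6 = y⁻¹ := (inv_eq_of_mul_eq_one_left (by rw [← pow_succ, hy7])).symm
  set B := Subgroup.zpowers y
  have hinv : ∀ b ∈ B, t * b * t⁻¹ = b⁻¹ := by
    rintro b ⟨m, rfl⟩
    show t * y ^ m * t⁻¹ = (y ^ m)⁻¹
    rw [← conj_zpow, hty, hy6, inv_zpow]
  have htn : t ∈ Subgroup.normalizer (B : Set G) := by
    rw [Subgroup.mem_normalizer_iff]
    intro b
    refine ⟨fun hb => hinv b hb ▸ inv_mem hb, fun hb => ?_⟩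
    have h1 := hinv _ hb
    have h2 : t * (t * b * t⁻¹) * t⁻¹ = b := by
      have htt : t * t = 1 := by rw [← sq, ← ht2, pow_orderOf_eq_one]
      have hti : t⁻¹ = t := inv_eq_of_mul_eq_one_right htt
      rw [hti]
      calc t * (t * b * t) * t = (t * t) * b * (t * t) := by group
        _ = b := by rw [htt]; group
    exact h2 ▸ h1 ▸ inv_mem hb
  have htH : t ∈ Subgroup.normalizer ((Subgroup.centralizer (B : Set G) : Subgroup G) : Set G) :=
    Cfsg.Comp.le_normalizer_centralizer (le_refl _) htn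
  have htlay := Cfsg.Comp.le_normalizer_map_subtype (layer ↥(Subgroup.centralizer (B : Set G))) htH
  refine ⟨t, ht2, hinv, fun x hx => (Subgroup.mem_normalizer_iff.mp htlay x).mp hx, ?_⟩
  rintro ⟨l, hl, hlx⟩
  have hlc : l ∈ Subgroup.centralizer (B : Set G) := Subgroup.map_subtype_le _ hl
  refine outer D hy hy7 hord hM (u := l⁻¹ * t) ?_ fun x hx => ?_
  · rw [show l⁻¹ * t * y * (l⁻¹ * t)⁻¹ = l⁻¹ * (t * y * t⁻¹) * l by group, hty, mul_assoc,
      Subgroup.mem_centralizer_iff.mp hlc _ (pow_mem (Subgroup.mem_zpowers y) 6), inv_mul_cancel_left]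
  · rw [show l⁻¹ * t * x * (l⁻¹ * t)⁻¹ = l⁻¹ * (t * x * t⁻¹) * l by group, hlx x hx]; group

end Main

end Seven

end H84.Mon
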