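import Cfsg.Agent.H84.Monster.Perm

/-!
Orbit sums under the permutation: the classes modulo two fixed by it are spanned by given vectors.
-/

set_option autoImplicit false

namespace H84.Mon

open Cfsg H95 H56M

/-- a list as a function on the points -/
def listVec (l : List ℤ) : GolayPt → ℤ := fun i => l.getD (H90.idx i).val 0

/-- the combination selected by a mask -/
def combVec (U : List (List ℤ)) (m : ℕ) : GolayPt → ℤ :=
  ((List.range U.length).filter fun j => m.testBit j).foldr (fun j a => listVec (U.getD j []) + a) 0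

/-- the sum over an orbit -/
def Cfg.orbF (D : Cfg) : (GolayPt → ℤ) →+ (GolayPt → ℤ) :=
  AddMonoidHom.mk' (fun y i => ∑ j ∈ Finset.range D.p, y (H90.pt (Fin.ofNat 24 (D.mv j (H90.idx i).val))))
    fun a b => funext fun i => Finset.sum_add_distrib

/-- the 37 generators -/
def genVec (k : ℕ) : GolayPt → ℤ :=
  if k < 23 then Pi.single (H90.pt (Fin.ofNat 24 k)) 4 - Pi.single none 4
  else if k = 23 then Pi.single none 8
  else if k < 36 then fun i => 2 * ((H90.wordOf (H90.rows.getD (k - 24) 0) i).val : ℤ)
  else oddVec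

/-- the checks: the vectors are in the lattice, and each orbit sum is a combination modulo two -/
def Cfg.spanOK (D : Cfg) (U : List (List ℤ)) (cert : List (ℕ × List ℤ)) : Bool :=
  U.all (fun u => H96.Check.checkB (listVec u) &&
    (List.range 24).all fun i => decide (u.getD (D.mv 1 i) 0 = u.getD i 0)) &&
  (List.range 37).all fun k => H96.Check.checkB (listVec (cert.getD k (0, [])).2) &&
    (List.finRange 24).all fun n => decide (D.orbF (genVec k) (H90.pt n) =
      combVec U (cert.getD k (0, [])).1 (H90.pt n) + 2 * listVec (cert.getD k (0, [])).2 (H90.pt n))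

namespace Cfg

variable (D : Cfg) (h : D.ok = true)
include h

theorem hval (n : ℕ) (v : leechLattice) (i : GolayPt) :
    ((D.aut h ^ n • v : leechLattice) : GolayPt → ℤ) i
      = (v : GolayPt → ℤ) ((D.perm h ^ n : Equiv.Perm GolayPt).symm i) := by
  induction n generalizing v i with
  | zero => rw [pow_zero, pow_zero, one_smul]; rfl
  | succ n ih =>
    rw [pow_succ, mul_smul, ih, D.aut_smul h, pow_succ, ← Equiv.Perm.inv_def, ← Equiv.Perm.inv_def,
      ← Equiv.Perm.inv_def, mul_inv_rev, Equiv.Perm.mul_apply]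

theorem aut_pow : D.aut h ^ D.p = 1 :=
  co0_ext fun v => Subtype.ext (funext fun i => by rw [D.hval h, D.perm_pow h, one_smul]; rfl)

/-- the orbit sum of a lattice vector -/
noncomputable def orbSum (v : leechLattice) : leechLattice :=
  ∑ j ∈ Finset.range D.p, (D.aut h)⁻¹ ^ j • v

theorem coe_orbSum (v : leechLattice) :
    ((D.orbSum h v : leechLattice) : GolayPt → ℤ) = D.orbF (v : GolayPt → ℤ) := by
  funext i
  rw [orbSum, AddSubgroup.val_finsetSum, Finset.sum_apply]
  refine Finset.sum_congr rfl fun j _ => ?_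
  have e := D.hval h j ((D.aut h)⁻¹ ^ j • v) (((D.perm h) ^ j) i)
  rw [inv_pow, smul_inv_smul, Equiv.symm_apply_apply] at e
  rw [inv_pow, ← e]
  refine congrArg (v : GolayPt → ℤ) (H90.idx_injective ?_)
  rw [H90.idx_pt]
  apply Fin.ext
  rw [Equiv.Perm.coe_pow, D.idx_iter h, Fin.val_ofNat]
  exact (Nat.mod_eq_of_lt (D.idx_iter h j i ▸ (H90.idx _).isLt)).symm

theorem orbSum_fixed (v : leechLattice) : D.aut h • D.orbSum h v = D.orbSum h v := by
  have hp : 0 < D.p := lt_of_le_of_lt (Nat.zero_le _) (D.pos_facts h (i := 0) (by norm_num)).2.2.2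
  obtain ⟨p', hp'⟩ : ∃ p', D.p = p' + 1 := ⟨D.p - 1, by omega⟩
  have hlast : (D.aut h)⁻¹ ^ p' = D.aut h := by
    have := D.aut_pow h
    rw [hp', pow_succ'] at this
    rw [inv_pow, inv_eq_of_mul_eq_one_left this]
  rw [orbSum, hp']
  conv_lhs => rw [show D.aut h • (∑ j ∈ Finset.range (p' + 1), (D.aut h)⁻¹ ^ j • v)
    = ∑ j ∈ Finset.range (p' + 1), D.aut h • ((D.aut h)⁻¹ ^ j • v) from
      map_sum (co0Hom (D.aut h)) _ _]
  rw [Finset.sum_range_succ' (fun j => D.aut h • ((D.aut h)⁻¹ ^ j • v)),
    Finset.sum_range_succ (fun j => (D.aut h)⁻¹ ^ j • v), hlast, pow_zero, one_smul]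
  congr 1
  refine Finset.sum_congr rfl fun j _ => ?_
  rw [pow_succ', mul_smul, smul_inv_smul]

theorem cls_orbSum (hodd : Odd D.p) {v : leechLattice} (hv : cls (D.aut h • v) = cls v) :
    cls (D.orbSum h v) = cls v := by
  have hj : ∀ j : ℕ, cls ((D.aut h)⁻¹ ^ j • v) = cls v := by
    intro j
    induction j with
    | zero => rw [pow_zero, one_smul]
    | succ j ih => rw [pow_succ', mul_smul]; exact (cls_smul_congr _ ih).trans (inv_mem_fix hv)
  have key : ∀ n : ℕ, cls (∑ j ∈ Finset.range n, (D.aut h)⁻¹ ^ j • v) = n • cls v := by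
    intro n
    induction n with
    | zero => rw [Finset.sum_range_zero, zero_smul]; rfl
    | succ n ih => rw [Finset.sum_range_succ, cls_add, ih, hj, succ_nsmul]
  obtain ⟨m, hm⟩ := hodd
  rw [orbSum, key, hm, succ_nsmul, mul_comm, mul_nsmul', two_nsmul, cls_add_self, nsmul_zero,
    zero_add]

omit h in
theorem combVec_mem {U : List (List ℤ)} (A : AddSubgroup (GolayPt → ℤ))
    (hU : ∀ u ∈ U, listVec u ∈ A) (m : ℕ) : combVec U m ∈ A := by
  have : ∀ l : List ℕ, (∀ j ∈ l, j < U.length) →
      l.foldr (fun j a => listVec (U.getD j []) + a) 0 ∈ A := by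
    intro l
    induction l with
    | nil => exact fun _ => zero_mem A
    | cons j l ih =>
      intro hl
      refine add_mem (hU _ ?_) (ih fun x hx => hl x (List.mem_cons_of_mem _ hx))
      rw [List.getD_eq_getElem _ _ (hl j List.mem_cons_self)]
      exact List.getElem_mem _
  exact this _ fun j hj => List.mem_range.mp (List.mem_filter.mp hj).1

theorem spanOK_facts {U : List (List ℤ)} {cert : List (ℕ × List ℤ)} (hs : D.spanOK U cert = true) :
    ∀ u ∈ U, ∃ hu : listVec u ∈ leechLattice,
      D.aut h • (⟨listVec u, hu⟩ : leechLattice) = ⟨listVec u, hu⟩ := by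
  intro u hu
  simp only [spanOK, Bool.and_eq_true] at hs
  have := List.all_eq_true.mp hs.1 u hu
  simp only [Bool.and_eq_true, List.all_eq_true, List.mem_range, decide_eq_true_eq] at this
  refine ⟨H96.Check.checkB_spec this.1, Subtype.ext (funext fun i => ?_)⟩
  rw [D.aut_smul h]
  have e := this.2 _ (H90.idx ((D.perm h).symm i)).isLt
  rw [← D.idx_iter h 1, Function.iterate_one, Equiv.apply_symm_apply] at e
  exact e.symm

/-- a set of classes containing the given vectors contains every fixed class -/
theorem fixed_mem {U : List (List ℤ)} {cert : List (ℕ × List ℤ)} (hs : D.spanOK U cert = true)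
    (hodd : Odd D.p) (P : AddSubgroup leechLattice) (h2 : twice leechLattice ≤ P)
    (hU : ∀ u ∈ U, ∀ hu : listVec u ∈ leechLattice, (⟨listVec u, hu⟩ : leechLattice) ∈ P)
    {v : leechLattice} (hv : cls (D.aut h • v) = cls v) : v ∈ P := by
  set A : AddSubgroup (GolayPt → ℤ) := P.map leechLattice.subtype
  have hUA : ∀ u ∈ U, listVec u ∈ A := fun u hu => by
    obtain ⟨hm, -⟩ := D.spanOK_facts h hs u hu
    exact ⟨_, hU u hu hm, rfl⟩
  have hgen : ∀ k < 37, genVec k ∈ A.comap D.orbF := by
    intro k hk
    simp only [spanOK, Bool.and_eq_true] at hs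
    have := List.all_eq_true.mp hs.2 k (List.mem_range.mpr hk)
    simp only [Bool.and_eq_true, List.all_eq_true, decide_eq_true_eq] at this
    set w : leechLattice := ⟨_, H96.Check.checkB_spec this.1⟩
    have e : D.orbF (genVec k) =
        combVec U (cert.getD k (0, [])).1 + ((2 • w : leechLattice) : GolayPt → ℤ) := by
      funext i
      have := this.2 (H90.idx i) (List.mem_finRange _)
      rw [H90.pt_idx] at this
      rw [this, AddSubgroup.coe_nsmul, Pi.add_apply, Pi.smul_apply, nsmul_eq_mul]
      rfl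
    show D.orbF (genVec k) ∈ A
    rw [e]
    exact add_mem (combVec_mem A hUA _) ⟨2 • w, h2 (mem_twice.mpr ⟨w, rfl⟩), rfl⟩
  have hle : leechLattice ≤ A.comap D.orbF := by
    refine H96.Check.le_of_gens _ (fun j => ?_) (hgen 23 (by norm_num)) (fun r hr => ?_) ?_
    · by_cases hj : (H90.idx j).val < 23
      · have := hgen _ (hj.trans (by norm_num : 23 < 37))
        rw [genVec, if_pos hj] at this
        have e : Fin.ofNat 24 (H90.idx j).val = H90.idx j :=
          Fin.ext (Nat.mod_eq_of_lt (H90.idx j).isLt)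
        rwa [e, H90.pt_idx] at this
      · have : j = none := by
          have h' : H90.idx j = H90.idx none :=
            Fin.ext (show (H90.idx j).val = 23 by have := (H90.idx j).isLt; omega)
          exact H90.idx_injective h'
        rw [this, sub_self]; exact zero_mem _
    · obtain ⟨m, hm, rfl⟩ := List.mem_iff_getElem.mp hr
      have hm' : m < 12 := by simpa [H90.rows] using hm
      have := hgen (24 + m) (by omega)
      rw [genVec, if_neg (by omega), if_neg (by omega), if_pos (by omega),
        Nat.add_sub_cancel_left, List.getD_eq_getElem _ _ hm] at this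
      exact this
    · exact hgen 36 (by norm_num)
  obtain ⟨x, hx, hxe⟩ := hle v.2
  have hxo : x = D.orbSum h v := Subtype.ext (hxe.trans (D.coe_orbSum h v).symm)
  have hd : v - D.orbSum h v ∈ twice leechLattice := cls_eq.mp (D.cls_orbSum h hodd hv).symm
  simpa [hxo] using add_mem (h2 hd) hx

end Cfg

end H84.Mon
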