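import Cfsg.Agent.H84.Monster.ThreeData
import Cfsg.Agent.H84.Monster.Mats
import Cfsg.Agent.H50.McLU4

/-!
The checks for the element of order three.
-/

set_option autoImplicit false
set_option maxRecDepth 100000

namespace H84.Mon.Three

open Cfsg H95 H56M

/-- the configuration -/
def cfg : Cfg where
  p := 3
  r := 6
  N := permN
  reps := reps
  E := expL
  O := orbL
  tests := testL

theorem cfg_ok : cfg.ok = true := by decide +kernel

theorem cand_one : cfg.candOK 1 true = true := by decide +kernel

theorem span_ok : cfg.spanOK U cert = true := by decide +kernel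

/-- a basis vector as a function -/
def uF (j : ℕ) : GolayPt → ℤ := listVec (U.getD j [])

/-- combinations of the basis -/
def combF : ℕ → ℕ → GolayPt → ℤ
  | 0, _ => 0
  | k + 1, m => if m.testBit k then uF k + combF k m else combF k m

/-- linear action on masks -/
def actN (img : List ℕ) : ℕ → ℕ → ℕ
  | 0, _ => 0
  | k + 1, m => if m.testBit k then img.getD k 0 ^^^ actN img k m else actN img k m

/-- a tree node -/
def nodeT (j : ℕ) : ℕ := Nat.land (Nat.shiftRight treeP (32 * j)) 4294967295

/-- position in the tree -/
def posT (m : ℕ) : ℕ := Nat.land (Nat.shiftRight posP (16 * m)) 65535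

/-- label of a class -/
def labT (m : ℕ) : ℕ := Nat.land (Nat.shiftRight labP (8 * m)) 255

/-- image of a line -/
def lpT (i l : ℕ) : ℕ := if i < 4 then (lperm.getD i []).getD l 0 else l

/-- matrices of the generators -/
def gE (i : ℕ) : List (List ℤ) := genE.getD i []

theorem gen_ok : ∀ i : Fin 5, matCheck (gE i.val) = true ∧ cfg.conjOK (gE i.val) 1 = true := by
  decide +kernel

theorem tau_ok : matCheck tauE = true ∧ cfg.conjOK tauE 1 = true := by decide +kernel

/-- the images of the basis -/
def imgB (i : ℕ) (j : Fin 12) : Bool :=
  H96.Check.checkB (listVec ((genW.getD i []).getD j.val [])) &&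
    decide ((genImg.getD i []).getD j.val 0 < 4096) &&
    (List.finRange 24).all fun n => decide ((applyL (gE i) (vecL (uF j.val))).getD n.val 0 =
      combF 12 ((genImg.getD i []).getD j.val 0) (H90.pt n) +
        2 * listVec ((genW.getD i []).getD j.val []) (H90.pt n))

theorem img_ok : ∀ (i : Fin 5) (j : Fin 12), imgB i.val j = true := by decide +kernel

theorem dual_mem : ∀ j : Fin 12, H96.Check.checkB (listVec (W.getD j.val [])) = true := by
  decide +kernel

theorem dual_ok : ∀ i j : Fin 12,
    dotInt (uF i.val) (listVec (W.getD j.val [])) / 8 % 2 = (if i = j then 1 else 0) := by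
  decide +kernel

/-- a small representative -/
def smallB (k : Fin 3) : Bool :=
  H96.Check.checkB (listVec (smallRep.getD k.val ([], [])).1) &&
    H96.Check.checkB (listVec (smallRep.getD k.val ([], [])).2) &&
    decide (dotInt (listVec (smallRep.getD k.val ([], [])).1) (listVec (smallRep.getD k.val ([], [])).1) < 64)

theorem small_ok : ∀ k : Fin 3, smallB k = true := by decide +kernel

/-- the bases of a line -/
def baseT (l : ℕ) : List H50.McLU4.W := (lines.getD l []).map H50.McLU4.dec

/-- commutation of matrices on the coordinate vectors -/
def commM (A B : List (List ℤ)) : Bool :=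
  (List.finRange 24).all fun n =>
    decide (applyL A (applyL B (eightL n)) = applyL B (applyL A (eightL n)))

end H84.Mon.Three
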