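import Cfsg.Agent.H84.Monster.Three

/-!
Checks on the classes.
-/

set_option autoImplicit false
set_option maxRecDepth 100000

namespace H84.Mon.Three

open Cfsg H95 H56M

/-- a node check -/
def nodeB (j : ℕ) : Bool :=
  let nd := nodeT j
  let m := nd % 4096
  if nd / 4096 % 2 = 1 then
    decide (nd / 65536 < 3) && (List.finRange 24).all fun n =>
      decide (listVec (smallRep.getD (nd / 65536) ([], [])).1 (H90.pt n) = combF 12 m (H90.pt n) +
        2 * listVec (smallRep.getD (nd / 65536) ([], [])).2 (H90.pt n))
  else
    decide (nd / 65536 < j ∧ nd / 8192 % 8 < 5 ∧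
      actN (genImg.getD (nd / 8192 % 8) []) 12 (nodeT (nd / 65536) % 4096) = m)

theorem node_ok : (List.range 2395).all nodeB = true := by decide +kernel

theorem pos_ok : (List.range 4096).all (fun m =>
    decide (posT m = 65535 ∨ (posT m < 2395 ∧ nodeT (posT m) % 4096 = m))) = true := by
  decide +kernel

theorem big_card : ((List.range 4096).filter fun m => decide (posT m = 65535)).length = 1701 := by
  decide +kernel

theorem lab_perm : ∀ i : Fin 5, (List.range 4096).all (fun m =>
    decide (labT m < 112 → labT (actN (genImg.getD i.val []) 12 m) = lpT i.val (labT m)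
      ∧ actN (genImg.getD i.val []) 12 m < 4096)) = true := by
  decide +kernel

theorem lp_lt : ∀ i : Fin 5, (List.range 112).all (fun l => decide (lpT i.val l < 112)) = true := by
  decide +kernel

theorem lab_exists : ∃ m : Fin 4096, labT m.val = 0 := by decide +kernel

end H84.Mon.Three
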