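import Cfsg.Agent.H84.Monster.Three

/-!
Checks on the lines.
-/

set_option autoImplicit false
set_option maxRecDepth 100000

namespace H84.Mon.Three

open Cfsg H95 H56M

/-- a line check -/
def lineB (i : Fin 4) (l : ℕ) : Bool :=
  (baseT l).all fun a =>
    H50.LeechU.inSpan (H50.LeechU.tvv 3 (H50.McLU4.rt i) H50.McLU4.c0 a) (baseT (lpT i.val l))

theorem line_ok : ∀ i : Fin 4, (List.range 112).all (lineB i) = true := by decide +kernel

theorem line_zero : (∀ x ∈ baseT 0, hermForm 4 H50.McLU4.K 3 x ((baseT 0).getD 0 0) = 0) ∧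
    (baseT 0).getD 0 0 ∈ baseT 0 ∧
    ∃ i : Fin 4, hermForm 4 H50.McLU4.K 3
      (H50.LeechU.tvv 3 (H50.McLU4.rt i) H50.McLU4.c0 ((baseT 0).getD 0 0)) ((baseT 0).getD 0 0) ≠ 0 := by
  decide +kernel

end H84.Mon.Three
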