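import Cfsg.Agent.H84.Monster.Three

/-!
Checks on the permutations.
-/

set_option autoImplicit false
set_option maxRecDepth 100000

namespace H84.Mon.Three

open Cfsg H95 H56M

theorem fix_code : ((List.range 4096).filter fun n =>
    Nat.beq (H90.permMask permN (H90.encode n)) (H90.encode n)).length = 64 := by
  decide +kernel

theorem fixed_pts : ∀ i : Fin 24, cfg.mv 1 i.val = i.val ↔ i.val < 6 := by decide +kernel

theorem mu_ok : (H90.isPerm muN && H90.preservesCode muN) = true ∧
    (∀ i : Fin 4, H90.img muN i.val = i.val) ∧ H90.img muN 4 = 5 := by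
  decide +kernel

/-- commutation with the permutation, on positions -/
def commN (q : ℕ) : Bool :=
  (List.range 24).all fun i => decide (H90.img q (H90.img permN i) = H90.img permN (H90.img q i))

/-- a power of the permutation, on positions -/
def isPow (k q : ℕ) : Bool := (List.range 24).all fun i => decide (H90.img q i = cfg.mv k i)

theorem stab_comm : (H90.stab5List.filter commN).all
    (fun q => isPow 0 q || isPow 1 q || isPow 2 q) = true := by
  decide +kernel

theorem stab_swap : (H90.stab5List.all fun q => !commN (H90.compN muN q)) = true := by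
  decide +kernel

/-- equality of permutation codes -/
def sameN (p q : ℕ) : Bool := (List.range 24).all fun i => decide (H90.img p i = H90.img q i)

theorem syl_ok : sylL.length = 27 ∧ (∀ p ∈ sylL, H90.isPerm p = true ∧ H90.preservesCode p = true) ∧
    (∀ a : Fin 27, ∀ b : Fin 27, sameN (sylL.getD a.val 0) (sylL.getD b.val 0) = true → a = b) ∧
    (∀ p ∈ sylL, ∀ q ∈ sylL, ∃ r ∈ sylL, sameN (H90.compN p q) r = true) ∧
    (∃ p ∈ sylL, isPow 0 p = true) ∧ (∃ p ∈ sylL, isPow 1 p = true) ∧
    ∀ p ∈ sylL, (∀ q ∈ sylL, sameN (H90.compN p q) (H90.compN q p) = true) →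
      (isPow 0 p || isPow 1 p || isPow 2 p) = true := by
  decide +kernel

end H84.Mon.Three
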