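import Cfsg.Agent.H84.Monster.Three

/-!
Coordinates on the classes fixed by the element of order three.
-/

set_option autoImplicit false

namespace H84.Mon.Three

open Cfsg H95 H56M

theorem bf_add_right (v w w' : leechLattice) : bf v (w + w') = bf v w + bf v w' := by
  obtain ⟨a, ha⟩ := leechLike.dvd8 v w
  obtain ⟨b, hb⟩ := leechLike.dvd8 v w'
  have e : ldot v (w + w') = ldot v w + ldot v w' := leechLike.add_right v w w'
  simp only [bf, e, ha, hb, ← mul_add,
    Int.mul_ediv_cancel_left _ (show (8 : ℤ) ≠ 0 by norm_num)]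
  push_cast; rfl

theorem bf_add_left' (v v' w : leechLattice) : bf (v + v') w = bf v w + bf v' w := by
  rw [bf_comm, bf_add_right, bf_comm w v, bf_comm w v']

theorem bf_cls {v v' : leechLattice} (h : cls v = cls v') (w : leechLattice) : bf v w = bf v' w := by
  obtain ⟨t, ht⟩ := mem_twice.mp (cls_eq.mp h)
  rw [show v = v' + 2 • t by rw [← ht]; abel, two_nsmul, bf_add_left', bf_add_left',
    CharTwo.add_self_eq_zero, add_zero]

theorem bf_zero_left (w : leechLattice) : bf 0 w = 0 := by
  have h := bf_add_left' 0 0 w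
  rwa [add_zero, left_eq_add] at h

theorem uF_facts (j : Fin 12) : ∃ hu : uF j.val ∈ leechLattice,
    cfg.aut cfg_ok • (⟨uF j.val, hu⟩ : leechLattice) = ⟨uF j.val, hu⟩ := by
  refine cfg.spanOK_facts cfg_ok span_ok (U.getD j.val []) ?_
  revert j; decide +kernel

/-- a basis vector -/
noncomputable def uV (k : ℕ) : leechLattice :=
  if h : k < 12 then ⟨uF k, (uF_facts ⟨k, h⟩).choose⟩ else 0

theorem coe_uV {k : ℕ} (h : k < 12) : ((uV k : leechLattice) : GolayPt → ℤ) = uF k := by
  rw [uV, dif_pos h]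

theorem uV_fixed (k : ℕ) : cfg.aut cfg_ok • uV k = uV k := by
  rw [uV]; split
  · exact (uF_facts ⟨k, by assumption⟩).choose_spec
  · exact co0_zero _

/-- a combination of the basis -/
noncomputable def cvN : ℕ → ℕ → leechLattice
  | 0, _ => 0
  | k + 1, m => if m.testBit k then uV k + cvN k m else cvN k m

/-- the vector of a mask -/
noncomputable def cv (m : ℕ) : leechLattice := cvN 12 m

theorem coe_cvN : ∀ {k : ℕ}, k ≤ 12 → ∀ m, ((cvN k m : leechLattice) : GolayPt → ℤ) = combF k m
  | 0, _, _ => rfl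
  | k + 1, hk, m => by
    rw [cvN, combF]
    split
    · rw [AddSubgroup.coe_add, coe_uV (by omega), coe_cvN (by omega)]
    · exact coe_cvN (by omega) m

theorem coe_cv (m : ℕ) : ((cv m : leechLattice) : GolayPt → ℤ) = combF 12 m := coe_cvN le_rfl m

theorem cvN_fixed : ∀ (k m : ℕ), cfg.aut cfg_ok • cvN k m = cvN k m
  | 0, _ => co0_zero _
  | k + 1, m => by
    rw [cvN]; split
    · rw [co0_add, uV_fixed, cvN_fixed]
    · exact cvN_fixed k m

theorem cvN_xor : ∀ (k a b : ℕ), cls (cvN k (a ^^^ b)) = cls (cvN k a) + cls (cvN k b)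
  | 0, _, _ => (cls_add_self _).symm ▸ rfl
  | k + 1, a, b => by
    simp only [cvN, Nat.testBit_xor]
    cases a.testBit k <;> cases b.testBit k <;> simp only [Bool.false_eq_true, Bool.bne_false,
      Bool.bne_true, Bool.not_false, Bool.not_true, bne_self_eq_false, if_true, if_false, cls_add,
      cvN_xor k a b]
    · abel
    · abel
    · rw [show cls (uV k) + cls (cvN k a) + (cls (uV k) + cls (cvN k b))
        = (cls (uV k) + cls (uV k)) + (cls (cvN k a) + cls (cvN k b)) by abel, cls_add_self, zero_add]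

theorem cv_zero : cv 0 = 0 := by
  have : ∀ k, cvN k 0 = 0 := by
    intro k
    induction k with
    | zero => rfl
    | succ k ih => rw [cvN, if_neg (by simp), ih]
  exact this 12

/-- a dual vector -/
noncomputable def wV (j : Fin 12) : leechLattice := ⟨_, H96.Check.checkB_spec (dual_mem j)⟩

theorem bf_uV (k : Fin 12) (j : Fin 12) : bf (uV k.val) (wV j) = if k = j then 1 else 0 := by
  have h := dual_ok k j
  rw [bf, show ldot (uV k.val) (wV j) = dotInt (uF k.val) (listVec (W.getD j.val [])) by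
    rw [← coe_uV k.isLt]; rfl]
  rw [← ZMod.intCast_mod _ 2, show ((2 : ℕ) : ℤ) = 2 from rfl, h]
  split <;> rfl

theorem bf_cvN (j : Fin 12) : ∀ {k : ℕ}, k ≤ 12 → ∀ m,
    bf (cvN k m) (wV j) = if j.val < k ∧ m.testBit j.val then 1 else 0
  | 0, _, m => by rw [cvN, bf_zero_left, if_neg (fun h => Nat.not_lt_zero _ h.1)]
  | k + 1, hk, m => by
    rw [cvN]
    have hu := bf_uV ⟨k, by omega⟩ j
    by_cases hb : m.testBit k = true
    · rw [if_pos hb, bf_add_left', hu, bf_cvN j (by omega) m]
      by_cases hj : j.val = k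
      · have : (⟨k, by omega⟩ : Fin 12) = j := Fin.ext hj.symm
        rw [if_pos this, if_neg (by omega), if_pos ⟨by omega, hj ▸ hb⟩, add_zero]
      · rw [if_neg (fun e => hj (by rw [← e])), zero_add]
        by_cases h : j.val < k ∧ m.testBit j.val = true
        · rw [if_pos h, if_pos ⟨by omega, h.2⟩]
        · rw [if_neg h, if_neg (fun h' => h ⟨by omega, h'.2⟩)]
    · rw [if_neg hb, bf_cvN j (by omega) m]
      by_cases h : j.val < k ∧ m.testBit j.val = true
      · rw [if_pos h, if_pos ⟨by omega, h.2⟩]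
      · rw [if_neg h, if_neg fun h' => h ⟨lt_of_le_of_ne (by omega) fun e => hb (e ▸ h'.2), h'.2⟩]

theorem cv_inj {a b : ℕ} (ha : a < 4096) (hb : b < 4096) (h : cls (cv a) = cls (cv b)) : a = b := by
  refine Nat.eq_of_testBit_eq fun i => ?_
  by_cases hi : i < 12
  · have e := bf_cls h (wV ⟨i, hi⟩)
    rw [cv, cv, bf_cvN _ le_rfl, bf_cvN _ le_rfl] at e
    cases h1 : a.testBit i <;> cases h2 : b.testBit i <;> simp [h1, h2, hi] at e ⊢
  · have : (4096 : ℕ) ≤ 2 ^ i := by
      calc (4096 : ℕ) = 2 ^ 12 := by norm_num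
        _ ≤ 2 ^ i := Nat.pow_le_pow_right (by norm_num) (by omega)
    rw [Nat.testBit_eq_false_of_lt (by omega), Nat.testBit_eq_false_of_lt (by omega)]

/-- fixed classes are combinations of the basis -/
theorem exists_mask {v : leechLattice} (hv : cls (cfg.aut cfg_ok • v) = cls v) :
    ∃ m < 4096, cls v = cls (cv m) := by
  let P : AddSubgroup leechLattice :=
    { carrier := {v | ∃ m < 4096, cls v = cls (cv m)}
      zero_mem' := ⟨0, by norm_num, by rw [cv_zero]⟩
      add_mem' := by
        rintro x y ⟨a, ha, ea⟩ ⟨b, hb, eb⟩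
        refine ⟨a ^^^ b, Nat.xor_lt_two_pow (n := 12) ha hb, ?_⟩
        rw [cls_add, ea, eb]; exact (cvN_xor 12 a b).symm
      neg_mem' := by
        rintro x ⟨a, ha, ea⟩
        exact ⟨a, ha, by rw [cls_neg]; exact ea⟩ }
  refine cfg.fixed_mem cfg_ok span_ok ⟨1, rfl⟩ P ?_ ?_ hv
  · intro x hx
    refine ⟨0, by norm_num, ?_⟩
    rw [cv_zero, cls_eq, sub_zero]; exact hx
  · intro u hu hm
    obtain ⟨k, hk, rfl⟩ := List.mem_iff_getElem.mp hu
    have hk12 : k < 12 := by simpa [U] using hk
    refine ⟨2 ^ k, (Nat.pow_lt_pow_right (by norm_num) hk12).trans_eq (by norm_num), ?_⟩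
    have hone : ∀ n, cvN n (2 ^ k) = if k < n then uV k else 0 := by
      intro n
      induction n with
      | zero => rw [cvN, if_neg (Nat.not_lt_zero _)]
      | succ n ih =>
        rw [cvN, ih, Nat.testBit_two_pow]
        by_cases hkn : k = n
        · rw [if_pos (by simpa using hkn), if_neg (by omega), if_pos (by omega), add_zero, hkn]
        · rw [if_neg (by simpa using hkn)]
          by_cases hlt : k < n
          · rw [if_pos hlt, if_pos (by omega)]
          · rw [if_neg hlt, if_neg (by omega)]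
    rw [cv, hone, if_pos hk12]
    congr 1
    refine Subtype.ext ?_
    show listVec _ = ((uV k : leechLattice) : GolayPt → ℤ)
    rw [coe_uV hk12, uF, List.getD_eq_getElem _ _ hk]

/-- a matrix as an element -/
noncomputable def gel (i : Fin 5) : Co0 := (mkMat _ (gen_ok i).1).elt

theorem gel_comm (i : Fin 5) : gel i * cfg.aut cfg_ok = cfg.aut cfg_ok * gel i := by
  have := cfg.conj_of_ok cfg_ok (gen_ok i).1 (gen_ok i).2
  rwa [pow_one, mul_inv_eq_iff_eq_mul] at this

theorem img_facts (i : Fin 5) (j : Fin 12) : (genImg.getD i.val []).getD j.val 0 < 4096 ∧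
    cls (gel i • uV j.val) = cls (cv ((genImg.getD i.val []).getD j.val 0)) := by
  have h := img_ok i j
  simp only [imgB, Bool.and_eq_true, decide_eq_true_eq, List.all_eq_true] at h
  refine ⟨h.1.2, cls_eq.mpr (mem_twice.mpr ⟨⟨_, H96.Check.checkB_spec h.1.1⟩, ?_⟩)⟩
  rw [sub_eq_iff_eq_add]
  refine Subtype.ext (funext fun p => ?_)
  have e := h.2 (H90.idx p) (List.mem_finRange _)
  rw [← coe_uV j.isLt, show applyL (gE i.val) (vecL ((uV j.val : leechLattice) : GolayPt → ℤ))
      = vecL ((gel i • uV j.val : leechLattice) : GolayPt → ℤ) from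
      (MatData.vecL_elt (mkMat _ (gen_ok i).1) _).symm,
    vecL_getD _ (H90.idx p).isLt, H90.pt_idx, ← coe_cv] at e
  rw [AddSubgroup.coe_add, AddSubgroup.coe_nsmul, Pi.add_apply, Pi.smul_apply, nsmul_eq_mul]
  show ((gel i • uV j.val : leechLattice) : GolayPt → ℤ) p = _
  rw [e, add_comm]
  rfl

/-- the action of a generator on masks -/
theorem gel_cv (i : Fin 5) (m : ℕ) :
    cls (gel i • cv m) = cls (cv (actN (genImg.getD i.val []) 12 m)) := by
  have key : ∀ k ≤ 12, cls (gel i • cvN k m) = cls (cv (actN (genImg.getD i.val []) k m)) := by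
    intro k
    induction k with
    | zero => intro _; rw [cvN, co0_zero, actN, cv_zero]
    | succ k ih =>
      intro hk
      rw [cvN, actN]
      by_cases hb : m.testBit k = true
      · rw [if_pos hb, if_pos hb, co0_add, cls_add, ih (by omega),
          (img_facts i ⟨k, by omega⟩).2]
        exact (cvN_xor 12 _ _).symm
      · rw [if_neg hb, if_neg hb]
        exact ih (by omega)
  exact key 12 le_rfl

end H84.Mon.Three
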