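import Cfsg.Agent.H84.Monster.ThreeCoord
import Cfsg.Agent.H84.Monster.ThreeA
import Cfsg.Agent.H84.Monster.ThreeC
import Cfsg.Agent.H90.Group
import Cfsg.Agent.H95.Orbits

/-!
An upper bound on the centraliser in `Co0` of the element of order three.
-/

set_option autoImplicit false

namespace H84.Mon.Three

open Cfsg H95 H56M

/-- the centraliser -/
noncomputable abbrev CC : Subgroup Co0 := Subgroup.centralizer ({cfg.aut cfg_ok} : Set Co0)

theorem mem_CC {g : Co0} : g ∈ CC ↔ g * cfg.aut cfg_ok = cfg.aut cfg_ok * g :=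
  Subgroup.mem_centralizer_singleton_iff

theorem gel_mem (i : Fin 5) : gel i ∈ CC := mem_CC.mpr (gel_comm i)

theorem finite_co0 : Finite Co0 :=
  Nat.finite_of_card_ne_zero (by rw [card_co0 golayUnique]; norm_num)

/-- the short classes -/
theorem short_class : ∀ j < 2395, ∃ (k : Co0) (v : leechLattice), ldot v v < 64 ∧
    cls (k • v) = cls (cv (nodeT j % 4096)) := by
  intro j
  induction j using Nat.strong_induction_on with
  | _ j ih =>
    intro hj
    have h := List.all_eq_true.mp node_ok j (List.mem_range.mpr hj)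
    simp only [nodeB] at h
    split at h
    · simp only [Bool.and_eq_true, decide_eq_true_eq, List.all_eq_true] at h
      have hs := small_ok ⟨_, h.1⟩
      simp only [smallB, Bool.and_eq_true, decide_eq_true_eq] at hs
      refine ⟨1, ⟨_, H96.Check.checkB_spec hs.1.1⟩, hs.2, ?_⟩
      rw [one_smul, cls_eq, mem_twice]
      refine ⟨⟨_, H96.Check.checkB_spec hs.1.2⟩, ?_⟩
      rw [sub_eq_iff_eq_add]
      refine Subtype.ext (funext fun p => ?_)
      have e := h.2 (H90.idx p) (List.mem_finRange _)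
      rw [H90.pt_idx, ← coe_cv] at e
      rw [AddSubgroup.coe_add, AddSubgroup.coe_nsmul, Pi.add_apply, Pi.smul_apply, nsmul_eq_mul]
      exact e.trans (add_comm _ _)
    · simp only [decide_eq_true_eq] at h
      obtain ⟨h1, h2, h3⟩ := h
      obtain ⟨k, v, hv, he⟩ := ih _ h1 (h1.trans hj)
      refine ⟨gel ⟨_, h2⟩ * k, v, hv, ?_⟩
      rw [mul_smul, ← h3]
      exact (cls_smul_congr _ he).trans (gel_cv ⟨_, h2⟩ _)

/-- the classes of norm 64 -/
def bigS : Finset ℕ := (Finset.range 4096).filter fun m => posT m = 65535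

theorem card_bigS : bigS.card = 1701 := by
  have h := big_card
  rw [← List.toFinset_card_of_nodup (List.Nodup.filter _ List.nodup_range)] at h
  refine Eq.trans (congrArg Finset.card ?_) h
  ext m
  simp [bigS]

theorem orbit_class {c : Co0} (hc : c ∈ CC) :
    ∃ m ∈ bigS, cls (c • eight none) = cls (cv m) := by
  have hfix : cls (cfg.aut cfg_ok • (c • eight none)) = cls (c • eight none) := by
    rw [← mul_smul, ← mem_CC.mp hc, mul_smul]
    exact cls_smul_congr _ (fix_frame_mono (cfg.perm_mem cfg_ok) H56M.empty_supp)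
  obtain ⟨m, hm, he⟩ := exists_mask hfix
  refine ⟨m, Finset.mem_filter.mpr ⟨Finset.mem_range.mpr hm, ?_⟩, he⟩
  have h := List.all_eq_true.mp pos_ok m (List.mem_range.mpr hm)
  rw [decide_eq_true_eq] at h
  refine h.resolve_right fun ⟨h1, h2⟩ => ?_
  obtain ⟨k, v, hv, hk⟩ := short_class _ h1
  rw [h2, ← he] at hk
  have h64 : ldot (c • eight none) (c • eight none) = 64 := by rw [co0_dot, eight_norm]
  have hkv : ldot (k • v) (k • v) < 64 := by rwa [co0_dot]
  rcases eq_or_neg_of_cls hkv.le h64.le hk (Or.inl hkv.ne) with e | e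
  · rw [e, h64] at hkv; omega
  · rw [e, leechLike.norm_neg, h64] at hkv; omega

/-- the permutations centralising the permutation -/
def CM : Set M24 := {σ | (σ : Equiv.Perm GolayPt) * cfg.perm cfg_ok = cfg.perm cfg_ok * σ}

theorem idx_perm (i : GolayPt) : (H90.idx (cfg.perm cfg_ok i)).val = cfg.mv 1 (H90.idx i).val :=
  cfg.idx_iter cfg_ok 1 i

theorem commN_of {τ : Equiv.Perm GolayPt} {q : ℕ} (hq : H90.Repr τ q)
    (h : τ * cfg.perm cfg_ok = cfg.perm cfg_ok * τ) : commN q = true := by
  simp only [commN, List.all_eq_true, List.mem_range, decide_eq_true_eq]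
  intro i hi
  have hr := cfg.perm_repr cfg_ok
  have e := congrArg (fun x : Equiv.Perm GolayPt => (H90.idx (x (H90.pt ⟨i, hi⟩))).val) h
  simp only [Equiv.Perm.mul_apply] at e
  rw [hq.apply, hr.apply, hr.apply, hq.apply, H90.idx_pt] at e
  exact e

theorem fixed_lt {σ : M24} (hσ : σ ∈ CM) {i : ℕ} (hi : i < 6) :
    (H90.idx ((σ : Equiv.Perm GolayPt) (H90.pt ⟨i, by omega⟩))).val < 6 := by
  refine (fixed_pts _).mp ?_
  have hfix : cfg.perm cfg_ok (H90.pt ⟨i, by omega⟩) = H90.pt ⟨i, by omega⟩ := by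
    apply H90.idx_injective; apply Fin.ext
    rw [idx_perm, H90.idx_pt]
    exact (fixed_pts ⟨i, by omega⟩).mpr hi
  have e := congrArg (fun x : Equiv.Perm GolayPt => x (H90.pt ⟨i, by omega⟩)) hσ
  simp only [Equiv.Perm.mul_apply, hfix] at e
  rw [← idx_perm, ← e]

/-- commuting permutations fixing four of the fixed points -/
theorem pow_of_fix {τ : M24} (hc : τ ∈ CM)
    (hfix : ∀ i : Fin 4, (τ : Equiv.Perm GolayPt) (H90.pt ⟨i.val, by omega⟩) = H90.pt ⟨i.val, by omega⟩) :
    ∃ j : Fin 3, (τ : Equiv.Perm GolayPt) = cfg.perm cfg_ok ^ j.val := by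
  have hmu := mu_ok
  simp only [Bool.and_eq_true] at hmu
  obtain ⟨μ, hμ⟩ := H90.exists_repr hmu.1.1
  have hμm : μ ∈ M24 := (H90.mem_M24_iff_preservesCode hμ).mpr hmu.1.2
  have hb : ∀ i : Fin 5, H90.base5 i = H90.pt ⟨i.val, by omega⟩ := fun i => rfl
  have hpos : ∀ i : Fin 4, (τ : Equiv.Perm GolayPt) (H90.pt ⟨i.val, by omega⟩) = H90.pt ⟨i.val, by omega⟩ :=
    hfix
  set v := (H90.idx ((τ : Equiv.Perm GolayPt) (H90.pt ⟨4, by norm_num⟩))).val with hv
  have hv6 : v < 6 := fixed_lt hc (i := 4) (by norm_num)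
  have hv4 : 4 ≤ v := by
    by_contra hlt
    have e1 := hpos ⟨v, by omega⟩
    have e2 : (τ : Equiv.Perm GolayPt) (H90.pt ⟨4, by norm_num⟩) = H90.pt ⟨v, by omega⟩ := by
      apply H90.idx_injective; apply Fin.ext; rw [H90.idx_pt]
    have e3 := congrArg (fun x => (H90.idx x).val)
      ((τ : Equiv.Perm GolayPt).injective (e2.trans e1.symm))
    simp only [H90.idx_pt] at e3
    omega
  rcases (show v = 4 ∨ v = 5 by omega) with h4 | h5
  · have hall : ∀ i, (τ : Equiv.Perm GolayPt) (H90.base5 i) = H90.base5 i := by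
      intro i
      rw [hb]
      by_cases hi : i.val < 4
      · exact hpos ⟨i.val, hi⟩
      · have hi4 : i.val = 4 := by omega
        apply H90.idx_injective; apply Fin.ext
        rw [H90.idx_pt]
        simp only [hi4]
        exact hv.symm.trans h4
    obtain ⟨q, hq, hr⟩ := H90.mem_stab5List_of_fixes τ.2 hall
    have hf := List.all_eq_true.mp stab_comm q (List.mem_filter.mpr ⟨hq, commN_of hr hc⟩)
    have key : ∀ k, isPow k q = true → (τ : Equiv.Perm GolayPt) = cfg.perm cfg_ok ^ k := by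
      intro k hk
      simp only [isPow, List.all_eq_true, List.mem_range, decide_eq_true_eq] at hk
      refine Equiv.ext fun i => H90.idx_injective (Fin.ext ?_)
      rw [hr.apply, Equiv.Perm.coe_pow, cfg.idx_iter cfg_ok]
      exact hk _ (H90.idx i).isLt
    simp only [Bool.or_eq_true] at hf
    rcases hf with (h | h) | h
    · exact ⟨0, key 0 h⟩
    · exact ⟨1, key 1 h⟩
    · exact ⟨2, key 2 h⟩
  · exfalso
    have hall : ∀ i, (μ⁻¹ * (τ : Equiv.Perm GolayPt)) (H90.base5 i) = H90.base5 i := by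
      intro i
      rw [hb, Equiv.Perm.mul_apply, Equiv.Perm.inv_eq_iff_eq]
      apply H90.idx_injective; apply Fin.ext
      rw [hμ.apply, H90.idx_pt]
      by_cases hi : i.val < 4
      · rw [hpos ⟨i.val, hi⟩, H90.idx_pt]
        exact (hmu.2.1 ⟨i.val, hi⟩).symm
      · have hi4 : i.val = 4 := by omega
        simp only [hi4, hmu.2.2]
        exact hv.symm.trans h5
    obtain ⟨q, hq, hr⟩ := H90.mem_stab5List_of_fixes (M24.mul_mem (M24.inv_mem hμm) τ.2) hall
    have hr2 := hμ.mul hr
    rw [mul_inv_cancel_left] at hr2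
    have := List.all_eq_true.mp stab_swap q hq
    rw [commN_of hr2 hc] at this
    exact absurd this (by decide)

theorem card_CM : Nat.card CM ≤ 1080 := by
  classical
  let f : CM → (Fin 4 ↪ Fin 6) := fun σ =>
    ⟨fun i => ⟨(H90.idx ((σ.1 : Equiv.Perm GolayPt) (H90.pt ⟨i.val, by omega⟩))).val,
      fixed_lt σ.2 (i := i.val) (by omega)⟩, fun i j e => by
      have h1 := H90.pt_injective ((σ.1 : Equiv.Perm GolayPt).injective
        (H90.idx_injective (Fin.ext (by simpa using congrArg Fin.val e))))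
      exact Fin.ext (congrArg Fin.val h1 :)⟩
  haveI : Nonempty CM := ⟨⟨1, by simp [CM]⟩⟩
  have hkey : ∀ σ : CM, ∃ j : Fin 3,
      (σ.1 : Equiv.Perm GolayPt) = (Function.invFun f (f σ)).1 * cfg.perm cfg_ok ^ j.val := by
    intro σ
    set τ := Function.invFun f (f σ)
    have hf : f τ = f σ := Function.invFun_eq ⟨σ, rfl⟩
    have hc : τ.1⁻¹ * σ.1 ∈ CM := by
      have h1 : Commute ((σ.1 : Equiv.Perm GolayPt)) (cfg.perm cfg_ok) := σ.2
      have h2 : Commute ((τ.1 : Equiv.Perm GolayPt)) (cfg.perm cfg_ok) := τ.2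
      exact ((h2.inv_left).mul_left h1).eq
    obtain ⟨j, hj⟩ := pow_of_fix hc fun i => by
      rw [Subgroup.coe_mul, InvMemClass.coe_inv, Equiv.Perm.mul_apply, Equiv.Perm.inv_eq_iff_eq]
      exact (H90.idx_injective (Fin.ext (congrArg Fin.val (DFunLike.congr_fun hf i) :))).symm
    refine ⟨j, ?_⟩
    rw [← hj, Subgroup.coe_mul, InvMemClass.coe_inv, mul_inv_cancel_left]
  choose J hJ using hkey
  have h := Nat.card_le_card_of_injective (fun σ => (f σ, J σ)) fun σ σ' e => by
    simp only [Prod.mk.injEq] at e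
    refine Subtype.ext (Subtype.ext ?_)
    rw [hJ σ, hJ σ', e.1, e.2]
  rw [Nat.card_prod, Nat.card_eq_fintype_card (α := Fin 4 ↪ Fin 6), Fintype.card_embedding_eq, Nat.card_fin] at h
  simpa using h

set_option maxRecDepth 100000 in
theorem encode_lt : ∀ m < 4096, H90.encode m < 2 ^ 24 := by decide +kernel

/-- code words fixed by the permutation -/
def FCd : Set ℕ := {n | n < 4096 ∧ H90.permMask permN (H90.encode n) = H90.encode n}

theorem card_FCd : Nat.card FCd = 64 := by
  have h := fix_code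
  rw [← List.toFinset_card_of_nodup (List.Nodup.filter _ List.nodup_range)] at h
  rw [Nat.card_coe_set_eq, show FCd = ↑((List.range 4096).filter fun n =>
    Nat.beq (H90.permMask permN (H90.encode n)) (H90.encode n)).toFinset by
      ext n; simp [FCd], Set.ncard_coe_finset, h]

theorem mono_parts {g : Co0} (hg : g ∈ CC) (hfr : cls (g • eight none) = cls (eight none)) :
    ∃ (σ : M24) (n : ℕ) (hc : H90.setOf' (H90.encode n) ∈ supports (golayCode : Set (GolayPt → ZMod 2))),
      σ ∈ CM ∧ n ∈ FCd ∧ g = mono (σ : Equiv.Perm GolayPt) (H90.setOf' (H90.encode n)) σ.2 hc := by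
  obtain ⟨σ, c, hσ, hc, rfl⟩ := mono_of_fix_frame hfr
  set π := cfg.perm cfg_ok with hπdef
  have hπ : π ∈ M24 := cfg.perm_mem cfg_ok
  have hci : c.image π ∈ supports (golayCode : Set (GolayPt → ZMod 2)) := smul_mem_supports hπ hc
  have e1 : mono σ c hσ hc * cfg.aut cfg_ok = mono (σ * π) c (M24.mul_mem hσ hπ) hc :=
    co0_ext fun v => Subtype.ext (by
      rw [mul_smul, Cfg.aut, mono_smul, mono_smul, mono_smul, signedPerm_comp, Finset.image_empty]
      simp [symmDiff_def, hπdef])
  have e2 : cfg.aut cfg_ok * mono σ c hσ hc = mono (π * σ) (c.image π) (M24.mul_mem hπ hσ) hci :=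
    co0_ext fun v => Subtype.ext (by
      rw [mul_smul, Cfg.aut, mono_smul, mono_smul, mono_smul, signedPerm_comp]
      simp [symmDiff_def, hπdef])
  obtain ⟨h1, h2⟩ := mono_injective (e1.symm.trans ((mem_CC.mp hg).trans e2))
  obtain ⟨w, hw, rfl⟩ := hc
  obtain ⟨n, hn, hwn⟩ := H90.mem_golayCode_iff.mp hw
  subst hwn
  have hlt : H90.encode n < 2 ^ 24 := by
    have : ∀ m < 4096, H90.encode m < 2 ^ 24 := encode_lt
    exact this n hn
  simp only [H90.support₂_wordOf] at h2 ⊢
  refine ⟨⟨σ, hσ⟩, n, ⟨_, hw, H90.support₂_wordOf _⟩, h1, ⟨hn, ?_⟩, rfl⟩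
  refine H90.setOf'_injOn (H90.permMask_lt (cfg.perm_repr cfg_ok) _) hlt ?_
  exact (H90.setOf'_permMask (cfg.perm_repr cfg_ok) _).trans h2.symm

theorem card_CC_le : Nat.card CC ≤ 117573120 := by
  classical
  haveI := finite_co0
  let St : Set CC := {c | cls ((c : Co0) • eight none) = cls (eight none)}
  have hSt : Nat.card St ≤ 1080 * 64 := by
    have hp : ∀ c : St, ∃ (σ : CM) (n : FCd)
        (hc : H90.setOf' (H90.encode n.1) ∈ supports (golayCode : Set (GolayPt → ZMod 2))),
        ((c : CC) : Co0) = mono (σ.1 : Equiv.Perm GolayPt) (H90.setOf' (H90.encode n.1)) σ.1.2 hc :=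
      fun c => by
        obtain ⟨σ, n, hc, hσ, hn, e⟩ := mono_parts (c : CC).2 c.2
        exact ⟨⟨σ, hσ⟩, ⟨n, hn⟩, hc, e⟩
    choose a b hc he using hp
    haveI : Finite FCd := Nat.finite_of_card_ne_zero (by rw [card_FCd]; norm_num)
    haveI : Finite M24 := Nat.finite_of_card_ne_zero (by rw [H90.natCard_M24]; norm_num)
    have := Nat.card_le_card_of_injective (fun c => (a c, b c)) fun c d e => by
      simp only [Prod.mk.injEq] at e
      refine Subtype.ext (Subtype.ext ?_)
      rw [he c, he d]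
      simp only [e.1, e.2]
    rw [Nat.card_prod, card_FCd] at this
    exact this.trans (Nat.mul_le_mul_right _ card_CM)
  choose f hf hfe using fun c : CC => orbit_class c.2
  haveI : Nonempty CC := ⟨1⟩
  let sec : ℕ → CC := Function.invFun f
  have hsec : ∀ c : CC, (sec (f c))⁻¹ * c ∈ St := by
    intro c
    have h : f (sec (f c)) = f c := Function.invFun_eq ⟨c, rfl⟩
    show cls ((((sec (f c) : Co0))⁻¹ * (c : Co0)) • eight none) = _
    have hh : cls ((c : Co0) • eight none) = cls ((sec (f c) : Co0) • eight none) := by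
      rw [hfe c, hfe (sec (f c)), h]
    rw [mul_smul]
    exact (cls_smul_congr _ hh).trans (by rw [inv_smul_smul])
  have := Nat.card_le_card_of_injective
    (fun c : CC => ((⟨f c, hf c⟩ : bigS), (⟨_, hsec c⟩ : St))) fun c d e => by
    simp only [Prod.mk.injEq, Subtype.mk.injEq] at e
    have := e.2
    rw [e.1] at this
    exact mul_left_cancel this
  rw [Nat.card_prod, Nat.card_eq_fintype_card (α := bigS), Fintype.card_coe, card_bigS] at this
  exact this.trans ((Nat.mul_le_mul_left _ hSt).trans (by norm_num))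

end H84.Mon.Three
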