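import Cfsg.Agent.H84.Monster.Three

/-!
Checks on the scalar element.
-/

set_option autoImplicit false
set_option maxRecDepth 100000

namespace H84.Mon.Three

open Cfsg H95 H56M

theorem comm_omega : ∀ i : Fin 5, commM (gE i.val) (gE 4) = true := by decide +kernel

/-- iterated images of the coordinate vectors by the scalar element and the permutation -/
def scalL (e : Fin 3 × Fin 3) (s : Bool) (n : Fin 24) : List ℤ :=
  let v := cfg.permL e.1.val ((applyL (gE 4))^[e.2.val] (eightL n))
  if s then v.map Neg.neg else v

theorem scal_inj : ∀ (e f : Fin 3 × Fin 3) (s t : Bool),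
    (∀ n : Fin 24, scalL e s n = scalL f t n) → e = f ∧ s = t := by
  decide +kernel

theorem omega_cube : ∀ n : Fin 24, (applyL (gE 4))^[3] (eightL n) = eightL n := by decide +kernel

/-- the outer element does not commute with the scalar element modulo the permutation -/
theorem tau_omega : ∀ (k : Fin 3) (s : Bool), ∃ n : Fin 24,
    applyL tauE (applyL (gE 4) (eightL n)) ≠
      (let v := cfg.permL k.val (applyL (gE 4) (applyL tauE (eightL n)))
       if s then v.map Neg.neg else v) := by
  decide +kernel

end H84.Mon.Three
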