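import Cfsg.Agent.H84.Monster.ThreeCount
import Cfsg.Agent.H84.Monster.ThreeB
import Cfsg.Agent.H84.Monster.ThreeD
import Cfsg.Agent.H84.Monster.Local

/-!
The centraliser in `Co0` of the element of order three modulo the element and the sign.
-/

set_option autoImplicit false

namespace H84.Mon.Three

open Cfsg H95 H56M H50 H50.LeechU Matrix

/-- the unitary group -/
abbrev SU4 : Type := SU 4 H50.McLU4.K 3

/-- the simple group -/
abbrev U43 : Type := PSU 4 H50.McLU4.K 3

/-- the central elements -/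
noncomputable def sc (e : (Fin 3 × Fin 3) × Bool) : Co0 :=
  (if e.2 then negOne else 1) * (cfg.aut cfg_ok ^ e.1.1.val * gel 4 ^ e.1.2.val)

/-- the outer element -/
noncomputable def tau : Co0 := (mkMat _ tau_ok.1).elt

theorem tau_mem : tau ∈ CC := by
  have := cfg.conj_of_ok cfg_ok tau_ok.1 tau_ok.2
  rw [pow_one, mul_inv_eq_iff_eq_mul] at this
  exact mem_CC.mpr this

theorem negOne_mem : negOne ∈ CC := mem_CC.mpr (negOne_comm _).symm.eq

theorem aut_mem : cfg.aut cfg_ok ∈ CC := mem_CC.mpr rfl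

theorem vecL_neg' (v : leechLattice) :
    vecL ((negOne • v : leechLattice) : GolayPt → ℤ) = (vecL (v : GolayPt → ℤ)).map Neg.neg := by
  rw [negOne_smul]
  simp [vecL, List.map_ofFn, Function.comp_def]

theorem vecL_omega (v : leechLattice) : ∀ b : ℕ,
    vecL ((gel 4 ^ b • v : leechLattice) : GolayPt → ℤ) = (applyL (gE 4))^[b] (vecL (v : GolayPt → ℤ))
  | 0 => by rw [pow_zero, one_smul]; rfl
  | b + 1 => by
    rw [pow_succ', mul_smul, Function.iterate_succ_apply', ← vecL_omega v b]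
    exact MatData.vecL_elt _ _

theorem vecL_sc (e : (Fin 3 × Fin 3) × Bool) (n : Fin 24) :
    vecL ((sc e • eight (H90.pt n) : leechLattice) : GolayPt → ℤ) = scalL e.1 e.2 n := by
  obtain ⟨⟨a, b⟩, s⟩ := e
  have h := cfg.vecL_aut_pow cfg_ok (k := a.val) (by show a.val ≤ 3; omega)
    (gel 4 ^ b.val • eight (H90.pt n))
  rw [vecL_omega, vecL_eight] at h
  simp only [sc, scalL]
  cases s
  · simp only [Bool.false_eq_true, if_false, one_mul, mul_smul]
    exact h
  · simp only [if_true, mul_smul]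
    rw [vecL_neg', h]

theorem sc_injective : Function.Injective sc := by
  intro e f h
  obtain ⟨h1, h2⟩ := scal_inj e.1 f.1 e.2 f.2 fun n => by rw [← vecL_sc, ← vecL_sc, h]
  exact Prod.ext h1 h2

theorem omega_pow_three : gel 4 ^ 3 = 1 := co0_ext_lists fun n => by
  rw [vecL_omega, one_smul, vecL_eight]
  exact omega_cube n

theorem aut_pow_mod (i : ℕ) : cfg.aut cfg_ok ^ i = cfg.aut cfg_ok ^ (i % 3) :=
  pow_eq_pow_mod i (cfg.aut_pow cfg_ok)

theorem gel_comm_omega (i : Fin 5) : gel i * gel 4 = gel 4 * gel i := co0_ext_lists fun n => by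
  have h := comm_omega i
  simp only [commM, List.all_eq_true, decide_eq_true_eq] at h
  rw [mul_smul, mul_smul]
  show vecL (((mkMat _ (gen_ok i).1).elt • (mkMat _ (gen_ok 4).1).elt • eight (H90.pt n) :
      leechLattice) : GolayPt → ℤ)
    = vecL (((mkMat _ (gen_ok 4).1).elt • (mkMat _ (gen_ok i).1).elt • eight (H90.pt n) :
      leechLattice) : GolayPt → ℤ)
  rw [MatData.vecL_elt, MatData.vecL_elt, MatData.vecL_elt, MatData.vecL_elt, vecL_eight]
  exact h n (List.mem_finRange _)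

/-- generators with their images -/
noncomputable def gen : Fin 4 ⊕ Fin 3 → Co0 × SU4
  | .inl i => (gel i.castSucc, H50.McLU4.g i)
  | .inr 0 => (gel 4, 1)
  | .inr 1 => (cfg.aut cfg_ok, 1)
  | .inr _ => (negOne, 1)

/-- the graph -/
noncomputable def Gam : Subgroup (Co0 × SU4) := Subgroup.closure (Set.range gen)

/-- the subgroup of index two -/
noncomputable def MM : Subgroup Co0 := Gam.map (MonoidHom.fst Co0 SU4)

theorem gen_mem (i : Fin 4 ⊕ Fin 3) : (gen i).1 ∈ MM :=
  ⟨gen i, Subgroup.subset_closure ⟨i, rfl⟩, rfl⟩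

theorem MM_le {H : Subgroup Co0} (h : ∀ i, (gen i).1 ∈ H) : MM ≤ H := by
  rw [MM, Subgroup.map_le_iff_le_comap, Gam, Subgroup.closure_le]
  rintro _ ⟨i, rfl⟩
  exact h i

theorem MM_le_CC : MM ≤ CC := MM_le fun i => by
  rcases i with i | i
  · exact gel_mem _
  · fin_cases i
    · exact gel_mem _
    · exact aut_mem
    · exact negOne_mem

theorem MM_omega {x : Co0} (h : x ∈ MM) : x * gel 4 = gel 4 * x := by
  refine Subgroup.mem_centralizer_singleton_iff.mp
    (MM_le (H := Subgroup.centralizer ({gel 4} : Set Co0)) (fun i => ?_) h)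
  refine Subgroup.mem_centralizer_singleton_iff.mpr ?_
  rcases i with i | i
  · exact gel_comm_omega _
  · fin_cases i
    · rfl
    · exact (gel_comm 4).symm
    · exact (negOne_comm (gel 4)).symm.eq

theorem sc_comm {x : Co0} (h : x ∈ MM) (e : (Fin 3 × Fin 3) × Bool) : Commute x (sc e) := by
  rw [sc]
  refine Commute.mul_right ?_ ((Commute.pow_right (mem_CC.mp (MM_le_CC h)) _).mul_right
    (Commute.pow_right (MM_omega h) _))
  split
  · exact negOne_comm x
  · exact Commute.one_right x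

theorem sc_mem (e : (Fin 3 × Fin 3) × Bool) : sc e ∈ MM := by
  refine mul_mem ?_ (mul_mem (pow_mem (gen_mem (.inr 1)) _) (pow_mem (gen_mem (.inr 0)) _))
  split
  · exact gen_mem (.inr 2)
  · exact one_mem _

/-- a pair moves the labelled classes alike -/
def Good' (p : Co0 × SU4) : Prop :=
  ∀ m < 4096, labT m < 112 → ∃ m' < 4096, cls (p.1 • cv m) = cls (cv m') ∧ labT m' < 112 ∧
    ∀ a ∈ baseT (labT m), suMat p.2 *ᵥ a ∈ spanL (baseT (labT m'))

theorem good'_of_smul {x : Co0} (h : ∀ m < 4096, cls (x • cv m) = cls (cv m)) : Good' (x, 1) :=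
  fun m hm hl => ⟨m, hm, h m hm, hl, fun a ha => by
    rw [suMat_one, one_mulVec]; exact Submodule.subset_span ha⟩

theorem good'_gel (i : Fin 5) (s : SU4) (hs : ∀ l < 112, ∀ a ∈ baseT l,
    suMat s *ᵥ a ∈ spanL (baseT (lpT i.val l))) : Good' (gel i, s) := by
  intro m hm hl
  have h := List.all_eq_true.mp (lab_perm i) m (List.mem_range.mpr hm)
  rw [decide_eq_true_eq] at h
  obtain ⟨h1, h2⟩ := h hl
  have h3 := List.all_eq_true.mp (lp_lt i) _ (List.mem_range.mpr hl)
  rw [decide_eq_true_eq] at h3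
  exact ⟨_, h2, gel_cv i m, h1 ▸ h3, fun a ha => h1 ▸ hs _ hl a ha⟩

theorem good_gen (i : Fin 4 ⊕ Fin 3) : Good' (gen i) := by
  rcases i with i | i
  · refine good'_gel i.castSucc _ fun l hl a ha => ?_
    rw [H50.McLU4.g_apply]
    have h := List.all_eq_true.mp (line_ok i) l (List.mem_range.mpr hl)
    exact mem_of_inSpan (List.all_eq_true.mp h a ha)
  · fin_cases i
    · refine good'_gel 4 1 fun l hl a ha => ?_
      rw [suMat_one, one_mulVec]
      exact Submodule.subset_span ha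
    · exact good'_of_smul fun m _ => by rw [cv, cvN_fixed]
    · exact good'_of_smul fun m _ => by rw [negOne_smul, cls_neg]

theorem good'_mul {p p' : Co0 × SU4} (h : Good' p) (h' : Good' p') : Good' (p * p') := by
  intro m hm hl
  obtain ⟨m1, hm1, e1, l1, s1⟩ := h' m hm hl
  obtain ⟨m2, hm2, e2, l2, s2⟩ := h m1 hm1 l1
  refine ⟨m2, hm2, ?_, l2, fun a ha => ?_⟩
  · rw [Prod.fst_mul, mul_smul]
    exact (cls_smul_congr _ e1).trans e2
  · rw [Prod.snd_mul, suMat_mulVec_mul]
    have hle : spanL (baseT (labT m1))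
        ≤ (spanL (baseT (labT m2))).comap (Matrix.mulVecLin (suMat p.2)) := by
      rw [spanL, Submodule.span_le]
      exact fun b hb => s2 b hb
    exact hle (s1 a ha)

theorem good_Gam {p : Co0 × SU4} (hp : p ∈ Gam) : Good' p := by
  haveI : Finite Co0 := finite_co0
  haveI : Finite SU4 := Finite.of_injective (fun g : SU4 => suMat g) fun _ _ e => SU_ext e
  rw [Gam, ← Subgroup.mem_toSubmonoid, Subgroup.closure_toSubmonoid_of_finite] at hp
  induction hp using Submonoid.closure_induction with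
  | one => exact good'_of_smul fun m _ => by rw [one_smul]
  | mem p hp => obtain ⟨i, rfl⟩ := hp; exact good_gen i
  | mul p p' _ _ e e' => exact good'_mul e e'

theorem snd_surj (s : SU4) : ∃ p ∈ Gam, p.2 = s := by
  have hs : s ∈ Gam.map (MonoidHom.snd Co0 SU4) := by
    have h : Subgroup.closure (Set.range H50.McLU4.g) ≤ Gam.map (MonoidHom.snd Co0 SU4) := by
      rw [Subgroup.closure_le]
      rintro _ ⟨i, rfl⟩
      exact ⟨gen (.inl i), Subgroup.subset_closure ⟨_, rfl⟩, rfl⟩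
    rw [H50.McLU4.closure_g] at h
    exact h (Subgroup.mem_top _)
  exact hs

theorem center_trivial {x : U43} (h : ∀ a, Commute a x) : x = 1 := by
  haveI : IsSimpleGroup U43 := PSU_isSimple H50.McLU4.hK (by norm_num) (by norm_num)
  rcases (Subgroup.Normal.eq_bot_or_eq_top (inferInstance : (Subgroup.center U43).Normal))
    with e | e
  · have hx : x ∈ Subgroup.center U43 := Subgroup.mem_center_iff.mpr fun a => h a
    rwa [e, Subgroup.mem_bot] at hx
  · exfalso
    letI : CommGroup U43 :=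
      { (inferInstance : Group U43) with
        mul_comm := fun a b =>
          (Subgroup.mem_center_iff.mp (e ▸ Subgroup.mem_top a : a ∈ Subgroup.center U43) b).symm }
    have hp := IsSimpleGroup.prime_card (α := U43)
    rw [H50.McLU4.card_PSU] at hp
    exact absurd hp (by norm_num)

/-- the map onto the simple group -/
theorem exists_hom : ∃ ψ : MM →* U43, Function.Surjective ψ ∧
    ∀ (x : MM) (e : (Fin 3 × Fin 3) × Bool), (x : Co0) = sc e → ψ x = 1 := by
  haveI : IsSimpleGroup U43 := PSU_isSimple H50.McLU4.hK (by norm_num) (by norm_num)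
  let φ : Gam →* MM := (MonoidHom.fst Co0 SU4).subgroupMap Gam
  have hφ : Function.Surjective φ := MonoidHom.subgroupMap_surjective _ _
  let χ : Gam →* U43 := (QuotientGroup.mk' _).comp ((MonoidHom.snd _ _).comp Gam.subtype)
  have hχ : Function.Surjective χ := by
    intro x
    obtain ⟨s, rfl⟩ := QuotientGroup.mk'_surjective _ x
    obtain ⟨p, hp, rfl⟩ := snd_surj s
    exact ⟨⟨p, hp⟩, rfl⟩
  have hle : φ.ker ≤ χ.ker := by
    rcases ((inferInstance : φ.ker.Normal).map χ hχ).eq_bot_or_eq_top with e | e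
    · exact (Subgroup.map_eq_bot_iff _).1 e
    · exfalso
      obtain ⟨hperp, hamem, i, hne⟩ := line_zero
      obtain ⟨p, hp, hp2⟩ : QuotientGroup.mk' _ (H50.McLU4.g i) ∈ φ.ker.map χ := by
        rw [e]; exact Subgroup.mem_top _
      have h1 : (p : Co0 × SU4).1 = 1 := congrArg Subtype.val hp
      obtain ⟨l, hl⟩ :=
        (mem_center_iff_scalar H50.McLU4.hK (by norm_num)).1 (QuotientGroup.eq.1 hp2)
      change suMat ((p : Co0 × SU4).2⁻¹ * H50.McLU4.g i) = l • 1 at hl
      obtain ⟨m0, hm0⟩ := lab_exists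
      obtain ⟨m', hm', hc, -, hspan⟩ := good_Gam p.2 m0.val m0.isLt (by rw [hm0]; norm_num)
      rw [h1, one_smul] at hc
      rw [← cv_inj m0.isLt hm' hc, hm0] at hspan
      set a := (baseT 0).getD 0 0
      have hperp' : spanL (baseT 0) ≤ perp 3 ({a} : Set H50.McLU4.W) := by
        rw [spanL, Submodule.span_le]
        intro x hx w hw
        rw [Set.mem_singleton_iff] at hw
        subst hw
        exact hperp x hx
      refine hne ?_
      rw [← H50.McLU4.g_apply,
        show H50.McLU4.g i = (p : Co0 × SU4).2 * ((p : Co0 × SU4).2⁻¹ * H50.McLU4.g i) by group,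
        suMat_mulVec_mul, hl, smul_mulVec, one_mulVec, mulVec_smul, h_smul_left,
        hperp' (hspan a hamem) a rfl, mul_zero]
  refine ⟨φ.liftOfSurjective hφ ⟨χ, hle⟩, fun x => ?_, ?_⟩
  · obtain ⟨q, rfl⟩ := hχ x
    exact ⟨φ q, MonoidHom.liftOfRightInverse_comp_apply φ _ _ _ q⟩
  · intro x e he
    have key : ∀ i : Fin 3, ∃ h : (gen (.inr i)).1 ∈ MM,
        (φ.liftOfSurjective hφ ⟨χ, hle⟩) ⟨_, h⟩ = 1 := fun i => by
      refine ⟨gen_mem _, ?_⟩
      have h := MonoidHom.liftOfRightInverse_comp_apply φ (Function.surjInv hφ)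
        (Function.rightInverse_surjInv hφ) ⟨χ, hle⟩ ⟨gen (.inr i), Subgroup.subset_closure ⟨_, rfl⟩⟩
      refine h.trans ?_
      fin_cases i <;> exact map_one (QuotientGroup.mk' _)
    obtain ⟨h0, e0⟩ := key 0
    obtain ⟨h1, e1⟩ := key 1
    obtain ⟨h2, e2⟩ := key 2
    obtain ⟨⟨a, b⟩, s⟩ := e
    have hx : x = (if s then (⟨_, h2⟩ : MM) else 1) * ((⟨_, h1⟩ : MM) ^ a.val * (⟨_, h0⟩ : MM) ^ b.val) := by
      apply Subtype.ext
      rw [he, sc]
      cases s <;> simp [gen]
    rw [hx, map_mul, map_mul, map_pow, map_pow, e0, e1, one_pow, one_pow, mul_one, mul_one]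
    cases s
    · exact map_one _
    · exact e2

theorem tau_not_mem : tau ∉ MM := by
  intro h
  obtain ⟨n, hn⟩ := tau_omega 0 false
  refine hn ?_
  have e := congrArg (fun g : Co0 => vecL ((g • eight (H90.pt n) : leechLattice) : GolayPt → ℤ))
    (MM_omega h)
  simp only [mul_smul] at e
  have h0 := cfg.vecL_aut_pow cfg_ok (k := 0) (by norm_num)
    (gel 4 • tau • eight (H90.pt n))
  rw [pow_zero, one_smul] at h0
  rw [h0] at e
  simp only [tau, gel, MatData.vecL_elt, vecL_eight] at e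
  simpa [mkMat] using e

/-- the structure of the centraliser -/
theorem structure_CC : ∃ ψ : MM →* U43, Function.Surjective ψ ∧
    (∀ x : MM, ψ x = 1 ↔ (x : Co0) ∈ Set.range sc) ∧ (MM.subgroupOf CC).index = 2 := by
  haveI := finite_co0
  obtain ⟨ψ, hψ, hsc⟩ := exists_hom
  have hU : Nat.card U43 = 3265920 := H50.McLU4.card_PSU
  let f : (Fin 3 × Fin 3) × Bool → ψ.ker := fun e => ⟨⟨sc e, sc_mem e⟩, hsc _ e rfl⟩
  have hf : Function.Injective f := fun e e' h =>
    sc_injective (congrArg (fun x : ψ.ker => ((x : MM) : Co0)) h)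
  have h18 : 18 ≤ Nat.card ψ.ker := by
    have := Nat.card_le_card_of_injective f hf
    simpa using this
  have hMM : Nat.card ψ.ker * Nat.card U43 = Nat.card MM := by
    rw [← ψ.ker.card_mul_index, Subgroup.index_ker, MonoidHom.range_eq_top.2 hψ, Subgroup.card_top]
  have hsub : Nat.card (MM.subgroupOf CC) = Nat.card MM :=
    Nat.card_congr (Subgroup.subgroupOfEquivOfLe MM_le_CC).toEquiv
  have hci := (MM.subgroupOf CC).card_mul_index
  rw [hsub, ← hMM, hU] at hci
  have h2 : 2 ≤ (MM.subgroupOf CC).index := by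
    have h0 : (MM.subgroupOf CC).index ≠ 0 := Subgroup.FiniteIndex.index_ne_zero
    have h1 : (MM.subgroupOf CC).index ≠ 1 := fun h => by
      rw [Subgroup.index_eq_one] at h
      exact tau_not_mem (Subgroup.mem_subgroupOf.mp
        (h ▸ Subgroup.mem_top (⟨tau, tau_mem⟩ : CC) : (⟨tau, tau_mem⟩ : CC) ∈ MM.subgroupOf CC))
    omega
  have hle : Nat.card CC ≤ 117573120 := card_CC_le
  have hk : Nat.card ψ.ker = 18 ∧ (MM.subgroupOf CC).index = 2 := by
    have := Nat.mul_le_mul (Nat.mul_le_mul_right 3265920 h18) h2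
    constructor <;> nlinarith
  refine ⟨ψ, hψ, fun x => ⟨fun hx => ?_, fun ⟨e, he⟩ => hsc x e he.symm⟩, hk.2⟩
  have hb : Function.Bijective f := by
    rw [Nat.bijective_iff_injective_and_card]
    exact ⟨hf, by rw [hk.1]; simp⟩
  obtain ⟨e, he⟩ := hb.2 ⟨x, hx⟩
  exact ⟨e, congrArg (fun y : ψ.ker => ((y : MM) : Co0)) he⟩

/-- the powers of the element with signs -/
noncomputable def N1 : Subgroup CC where
  carrier := {x | ∃ i : ℕ, (x : Co0) = cfg.aut cfg_ok ^ i ∨ (x : Co0) = cfg.aut cfg_ok ^ i * negOne}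
  one_mem' := ⟨0, Or.inl (by simp)⟩
  mul_mem' := by
    rintro x y ⟨i, hi⟩ ⟨j, hj⟩
    refine ⟨i + j, ?_⟩
    have hc := (negOne_comm (cfg.aut cfg_ok ^ j)).symm.eq
    rcases hi with hi | hi <;> rcases hj with hj | hj <;>
      rw [Subgroup.coe_mul, hi, hj, pow_add]
    · exact Or.inl rfl
    · exact Or.inr (mul_assoc _ _ _).symm
    · refine Or.inr ?_
      rw [mul_assoc, hc, mul_assoc]
    · refine Or.inl ?_
      calc _ = cfg.aut cfg_ok ^ i * (negOne * cfg.aut cfg_ok ^ j) * negOne := by group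
        _ = _ := by rw [hc, mul_assoc, mul_assoc, negOne_mul_self, mul_one]
  inv_mem' := by
    rintro x ⟨i, hi⟩
    refine ⟨2 * i, ?_⟩
    have h : (cfg.aut cfg_ok ^ i)⁻¹ = cfg.aut cfg_ok ^ (2 * i) := inv_eq_of_mul_eq_one_right (by
      rw [← pow_add, show i + 2 * i = 3 * i by ring, pow_mul,
        show cfg.aut cfg_ok ^ 3 = 1 from cfg.aut_pow cfg_ok, one_pow])
    rcases hi with hi | hi <;> rw [InvMemClass.coe_inv, hi]
    · exact Or.inl h
    · refine Or.inr ?_
      rw [_root_.mul_inv_rev, h, inv_eq_of_mul_eq_one_right negOne_mul_self]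
      exact (negOne_comm _).symm.eq

theorem mem_N1 {x : CC} : x ∈ N1 ↔
    ∃ i : ℕ, (x : Co0) = cfg.aut cfg_ok ^ i ∨ (x : Co0) = cfg.aut cfg_ok ^ i * negOne := Iff.rfl

theorem N1_sc {x : CC} (h : x ∈ N1) : ∃ a s, (x : Co0) = sc ((a, 0), s) := by
  obtain ⟨i, hi⟩ := h
  refine ⟨⟨i % 3, Nat.mod_lt _ (by norm_num)⟩, ?_⟩
  rcases hi with hi | hi
  · exact ⟨false, by rw [hi, aut_pow_mod, sc]; simp⟩
  · refine ⟨true, ?_⟩
    rw [hi, aut_pow_mod, sc]
    simpa using (negOne_comm (cfg.aut cfg_ok ^ (i % 3))).eq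

instance N1_normal : N1.Normal := ⟨fun x hx c => by
  have : c * x = x * c := by
    obtain ⟨i, hi⟩ := hx
    refine Subtype.ext ?_
    have hc : Commute (c : Co0) (cfg.aut cfg_ok) := mem_CC.mp c.2
    rcases hi with hi | hi <;> rw [Subgroup.coe_mul, Subgroup.coe_mul, hi]
    · exact (hc.pow_right i).eq
    · exact ((hc.pow_right i).mul_right (negOne_comm _)).eq
  rw [this, mul_inv_cancel_right]
  exact hx⟩

/-- the quotient -/
abbrev PP : Type := CC ⧸ N1

theorem omega_not_N1 : (⟨gel 4, gel_mem 4⟩ : CC) ∉ N1 := fun h => by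
  obtain ⟨a, s, e⟩ := N1_sc h
  have e' : sc ((0, 1), false) = sc ((a, 0), s) := by rw [← e, sc]; simp
  simpa using congrArg (fun x : (Fin 3 × Fin 3) × Bool => x.1.2) (sc_injective e')

theorem card_omega : Nat.card (Subgroup.zpowers (QuotientGroup.mk' N1 ⟨gel 4, gel_mem 4⟩)) = 3 := by
  haveI : Fact (Nat.Prime 3) := ⟨Nat.prime_three⟩
  rw [Nat.card_zpowers]
  refine orderOf_eq_prime ?_ ?_
  · rw [← map_pow, show (⟨gel 4, gel_mem 4⟩ : CC) ^ 3 = 1 from Subtype.ext omega_pow_three, map_one]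
  · intro h
    exact omega_not_N1 ((QuotientGroup.eq_one_iff _).mp h)

theorem tau_twist {c : CC} (hc : (c : Co0) ∉ MM) (hidx : (MM.subgroupOf CC).index = 2)
    (h : c * ⟨gel 4, gel_mem 4⟩ * c⁻¹ * (⟨gel 4, gel_mem 4⟩ : CC)⁻¹ ∈ N1) : False := by
  have hm : (⟨tau, tau_mem⟩ : CC)⁻¹ * c ∈ MM.subgroupOf CC := by
    rw [Subgroup.mul_mem_iff_of_index_two hidx, inv_mem_iff]
    exact ⟨fun h => absurd h (fun h => tau_not_mem h), fun h => absurd h hc⟩
  have hm' : tau⁻¹ * (c : Co0) ∈ MM := hm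
  obtain ⟨a, s, e⟩ := N1_sc h
  have e1 : tau * gel 4 = sc ((a, 0), s) * gel 4 * tau := by
    have e2 : (c : Co0) * gel 4 * (c : Co0)⁻¹ * (gel 4)⁻¹ = sc ((a, 0), s) := e
    rw [← e2]
    have e3 := MM_omega hm'
    calc tau * gel 4 = tau * (gel 4 * (tau⁻¹ * (c : Co0))) * (c : Co0)⁻¹ * tau := by group
      _ = _ := by rw [← e3]; group
  obtain ⟨n, hn⟩ := tau_omega a s
  refine hn ?_
  have e4 := congrArg (fun g : Co0 => vecL ((g • eight (H90.pt n) : leechLattice) : GolayPt → ℤ)) e1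
  simp only [mul_smul] at e4
  have h0 := cfg.vecL_aut_pow cfg_ok (k := a.val) (by show a.val ≤ 3; omega)
    (gel 4 • tau • eight (H90.pt n))
  simp only [sc, Fin.val_zero, pow_zero, mul_one] at e4
  simp only [tau, gel, MatData.vecL_elt, vecL_eight, mkMat] at e4 h0 ⊢
  cases s
  · simp only [Bool.false_eq_true, if_false, one_mul] at e4
    rw [h0] at e4
    simpa using e4
  · simp only [if_true, mul_smul] at e4
    rw [vecL_neg', h0] at e4
    simpa using e4

/-- the quotient: a normal subgroup of order three, the simple section, and no normal 2-subgroup -/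
theorem structure_PP : ∃ (N M : Subgroup PP) (_ : N.Normal) (_ : M.Normal), N ≤ M ∧ Nat.card N = 3 ∧
    M.index = 2 ∧ (∃ θ : M →* U43, Function.Surjective θ ∧ θ.ker = N.subgroupOf M) ∧
    ∀ T : Subgroup PP, T.Normal → IsPGroup 2 T → T = ⊥ := by
  haveI := finite_co0
  obtain ⟨ψ, hψ, hker, hidx⟩ := structure_CC
  let q : CC →* PP := QuotientGroup.mk' N1
  have hq : Function.Surjective q := QuotientGroup.mk'_surjective _
  set MC := MM.subgroupOf CC with hMC
  haveI hMCn : MC.Normal := Subgroup.normal_of_index_eq_two hidx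
  let K0 : Subgroup CC := (ψ.ker.map MM.subtype).subgroupOf CC
  have hK0 : ∀ x : CC, x ∈ K0 ↔ (x : Co0) ∈ Set.range sc := by
    intro x
    constructor
    · rintro ⟨y, hy, e⟩
      have e' : (y : Co0) = x := e
      exact e' ▸ (hker y).mp hy
    · rintro ⟨e, he⟩
      exact ⟨⟨sc e, sc_mem e⟩, (hker _).mpr ⟨e, rfl⟩, he⟩
  haveI hK0n : K0.Normal := ⟨fun x hx c => by
    obtain ⟨e, he⟩ := (hK0 x).mp hx
    have hxM : x ∈ MC := Subgroup.mem_subgroupOf.mpr (he ▸ sc_mem e)
    have hyM : c * x * c⁻¹ ∈ MC := hMCn.conj_mem x hxM c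
    rw [hK0]
    refine (hker ⟨_, Subgroup.mem_subgroupOf.mp hyM⟩).mp (center_trivial fun u => ?_)
    obtain ⟨m, rfl⟩ := hψ u
    refine Commute.map ?_ ψ
    have hm2 : c⁻¹ * ⟨(m : Co0), MM_le_CC m.2⟩ * c⁻¹⁻¹ ∈ MC :=
      hMCn.conj_mem _ (Subgroup.mem_subgroupOf.mpr m.2) c⁻¹
    have hcom : Commute (c⁻¹ * ⟨(m : Co0), MM_le_CC m.2⟩ * c⁻¹⁻¹) x :=
      Subtype.ext (by
        show ((c⁻¹ * ⟨(m : Co0), MM_le_CC m.2⟩ * c⁻¹⁻¹ : CC) : Co0) * (x : Co0) =
          (x : Co0) * ((c⁻¹ * ⟨(m : Co0), MM_le_CC m.2⟩ * c⁻¹⁻¹ : CC) : Co0)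
        rw [← he]
        exact (sc_comm (Subgroup.mem_subgroupOf.mp hm2) e).eq)
    have h2 := hcom.map (MulAut.conj c).toMonoidHom
    simp only [MulEquiv.coe_toMonoidHom, MulAut.conj_apply, inv_inv, mul_assoc, mul_inv_cancel_left,
      mul_inv_cancel, mul_one] at h2
    have h3 := congrArg Subtype.val h2.eq
    refine Subtype.ext ?_
    simp only [Subgroup.coe_mul, mul_assoc] at h3 ⊢
    exact h3⟩
  have hN1K : N1 ≤ K0 := fun x hx => by
    obtain ⟨a, s, e⟩ := N1_sc hx
    exact (hK0 x).mpr ⟨_, e.symm⟩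
  have hKM : K0 ≤ MC := fun x hx => by
    obtain ⟨e, he⟩ := (hK0 x).mp hx
    exact Subgroup.mem_subgroupOf.mpr (he ▸ sc_mem e)
  set M' := MC.map q with hM'
  set N' := K0.map q with hN'
  have hcomap : ∀ x : CC, q x ∈ M' ↔ x ∈ MC := fun x => by
    rw [hM', ← Subgroup.mem_comap, Subgroup.comap_map_eq_self]
    exact (QuotientGroup.ker_mk' N1).trans_le (hN1K.trans hKM)
  have hcomapN : ∀ x : CC, q x ∈ N' ↔ x ∈ K0 := fun x => by
    rw [hN', ← Subgroup.mem_comap, Subgroup.comap_map_eq_self]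
    exact (QuotientGroup.ker_mk' N1).trans_le hN1K
  have hNo : N' = Subgroup.zpowers (q ⟨gel 4, gel_mem 4⟩) := by
    refine le_antisymm ?_ (Subgroup.zpowers_le.mpr ((hcomapN _).mpr ((hK0 _).mpr
      ⟨((0, 1), false), by simp [sc]⟩)))
    rintro _ ⟨x, hx, rfl⟩
    obtain ⟨⟨⟨a, b⟩, s⟩, he⟩ := (hK0 x).mp hx
    refine ⟨(b.val : ℤ), ?_⟩
    show q ⟨gel 4, gel_mem 4⟩ ^ (b.val : ℤ) = q x
    rw [zpow_natCast, ← map_pow]
    refine (QuotientGroup.eq).mpr (mem_N1.mpr ⟨a.val, ?_⟩)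
    rw [Subgroup.coe_mul, InvMemClass.coe_inv, SubgroupClass.coe_pow, ← he, sc]
    have hg : Commute (gel 4) (cfg.aut cfg_ok) := gel_comm 4
    have hcom := ((hg.pow_left b.val).pow_right a.val).inv_left
    cases s
    · refine Or.inl ?_
      simp only [Bool.false_eq_true, if_false, one_mul]
      rw [← mul_assoc, hcom.eq, inv_mul_cancel_right]
    · refine Or.inr ?_
      simp only [if_true]
      rw [(negOne_comm (cfg.aut cfg_ok ^ a.val * gel 4 ^ b.val)).symm.eq, ← mul_assoc, ← mul_assoc,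
        hcom.eq, inv_mul_cancel_right]
  let e1 : MC →* MM :=
    { toFun := fun x => ⟨((x : CC) : Co0), Subgroup.mem_subgroupOf.mp x.2⟩
      map_one' := rfl
      map_mul' := fun _ _ => rfl }
  let ρ : MC →* M' := q.subgroupMap MC
  have hρ : Function.Surjective ρ := MonoidHom.subgroupMap_surjective _ _
  have hlift : ρ.ker ≤ (ψ.comp e1).ker := fun x hx => by
    obtain ⟨y, hy, e⟩ := hN1K ((QuotientGroup.eq_one_iff _).mp (congrArg Subtype.val hx :))
    show ψ (e1 x) = 1
    rw [show e1 x = y from Subtype.ext e.symm]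
    exact hy
  let θ : M' →* U43 := ρ.liftOfSurjective hρ ⟨ψ.comp e1, hlift⟩
  have hθ : ∀ x, θ (ρ x) = ψ (e1 x) := fun x => MonoidHom.liftOfRightInverse_comp_apply ρ _ _ _ x
  have hθs : Function.Surjective θ := fun u => by
    obtain ⟨m, rfl⟩ := hψ u
    exact ⟨ρ ⟨⟨m, MM_le_CC m.2⟩, Subgroup.mem_subgroupOf.mpr m.2⟩, hθ _⟩
  have hθk : θ.ker = N'.subgroupOf M' := by
    ext u
    obtain ⟨x, rfl⟩ := hρ u
    rw [MonoidHom.mem_ker, hθ, hker, Subgroup.mem_subgroupOf]
    exact ((hK0 x).symm).trans (hcomapN x).symm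
  have hcardN : Nat.card N' = 3 := by rw [hNo]; exact card_omega
  have hidx' : M'.index = 2 := by
    rw [hM', Subgroup.index_map_eq MC hq ((QuotientGroup.ker_mk' N1).trans_le (hN1K.trans hKM))]
    exact hidx
  have hNn : N'.Normal := hK0n.map q hq
  have hMn : M'.Normal := hMCn.map q hq
  refine ⟨N', M', hNn, hMn, Subgroup.map_mono hKM, hcardN, hidx', ⟨θ, hθs, hθk⟩, fun T hT hT2 => ?_⟩
  haveI : Fact (Nat.Prime 2) := ⟨Nat.prime_two⟩
  have hTM : ∀ t ∈ T, t ∈ M' → t = 1 := by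
    intro t ht htM
    have hT' : (T.subgroupOf M').Normal := hT.comap M'.subtype
    have hp : IsPGroup 2 (T.subgroupOf M') := hT2.comap_of_injective _ M'.subtype_injective
    haveI : IsSimpleGroup U43 := PSU_isSimple H50.McLU4.hK (by norm_num) (by norm_num)
    rcases (hT'.map θ hθs).eq_bot_or_eq_top with e | e
    · have h1 : (⟨t, htM⟩ : M') ∈ θ.ker :=
        (Subgroup.map_eq_bot_iff _).mp e (Subgroup.mem_subgroupOf.mpr ht)
      rw [hθk, Subgroup.mem_subgroupOf] at h1
      obtain ⟨k, hk⟩ := hT2 ⟨t, ht⟩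
      have h3 : orderOf t ∣ 3 := hcardN ▸ Subgroup.orderOf_dvd_natCard _ h1
      have h2 : orderOf t ∣ 2 ^ k :=
        orderOf_dvd_of_pow_eq_one (congrArg Subtype.val hk :)
      exact orderOf_eq_one_iff.mp (Nat.eq_one_of_dvd_coprimes
        (Nat.Coprime.pow_right k (by norm_num)) h3 h2)
    · exfalso
      have h2 : IsPGroup 2 (⊤ : Subgroup U43) := e ▸ hp.map θ
      obtain ⟨k, hk⟩ := h2.exists_card_eq
      rw [Subgroup.card_top, H50.McLU4.card_PSU] at hk
      have h3 : 3 ∣ 2 ^ k := hk ▸ (by norm_num : 3 ∣ 3265920)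
      exact absurd (Nat.prime_three.dvd_of_dvd_pow h3) (by norm_num)
  rw [Subgroup.eq_bot_iff_forall]
  intro t ht
  by_cases htM : t ∈ M'
  · exact hTM t ht htM
  exfalso
  obtain ⟨c, rfl⟩ := hq t
  have hw : q ⟨gel 4, gel_mem 4⟩ ∈ M' :=
    (hcomap _).mpr (Subgroup.mem_subgroupOf.mpr (gen_mem (.inr 0)))
  have h := hTM (q c * q ⟨gel 4, gel_mem 4⟩ * (q c)⁻¹ * (q ⟨gel 4, gel_mem 4⟩)⁻¹)
    (by rw [mul_assoc, mul_assoc, ← mul_assoc (q _) (q c)⁻¹]
        exact mul_mem ht (hT.conj_mem _ (inv_mem ht) _))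
    (mul_mem (hMn.conj_mem _ hw _) (inv_mem hw))
  refine tau_twist (c := c) (fun hc => htM ((hcomap c).mpr (Subgroup.mem_subgroupOf.mpr hc))) hidx ?_
  rw [← map_inv, ← map_inv, ← map_mul, ← map_mul, ← map_mul] at h
  exact (QuotientGroup.eq_one_iff _).mp h

end H84.Mon.Three
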